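import Mathlib
import Cfsg.Agent.Lib.Helper19.HermCount

/-!
# Counting orthonormal frames of a nondegenerate Hermitian space over `F`, `|F| = q^2`

Abstract Hermitian forms (`HermForm`), orthogonal complement of a vector of norm one, the number of
vectors of given norm (`card_norm`, equal to `Helper19.hermCount`), and the number of orthonormal
frames (`card_orthoFam`).
-/

set_option autoImplicit false
set_option linter.style.haveILetI false
set_option linter.unusedSectionVars false

namespace Cfsg.Agent.Lead

open Module Cfsg.Agent.Helper19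

/-- A `q`-Hermitian form on `V`: linear in the first variable, `B v u = (B u v)^q`. -/
structure HermForm (F : Type*) [Field F] (q : ℕ) (V : Type*) [AddCommGroup V] [Module F V] where
  /-- the form -/
  toFun : V → V → F
  add_left : ∀ u v w, toFun (u + v) w = toFun u w + toFun v w
  smul_left : ∀ (a : F) u w, toFun (a • u) w = a * toFun u w
  conj : ∀ u v, toFun v u = (toFun u v) ^ q

namespace HermForm

variable {F : Type*} [Field F] [Fintype F] {q : ℕ}
variable {V : Type*} [AddCommGroup V] [Module F V]

instance : CoeFun (HermForm F q V) (fun _ => V → V → F) := ⟨HermForm.toFun⟩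

theorem herm_add_pow (hF : Fintype.card F = q ^ 2) (x y : F) : (x + y) ^ q = x ^ q + y ^ q := by
  obtain ⟨p, hp, hc, j, rfl⟩ := herm_q_eq_pow hF
  exact add_pow_char_pow x y p j

variable (B : HermForm F q V)

/-- `u ↦ B u w` as a linear map. -/
def lin (w : V) : V →ₗ[F] F where
  toFun u := B u w
  map_add' u v := B.add_left u v w
  map_smul' a u := B.smul_left a u w

@[simp] theorem lin_apply (w u : V) : B.lin w u = B u w := rfl

theorem zero_left (w : V) : B 0 w = 0 := (B.lin w).map_zero

theorem neg_left (u w : V) : B (-u) w = - B u w := (B.lin w).map_neg u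

theorem sub_left (u v w : V) : B (u - v) w = B u w - B v w := (B.lin w).map_sub u v

theorem add_right (hF : Fintype.card F = q ^ 2) (u v w : V) : B u (v + w) = B u v + B u w := by
  rw [B.conj (v + w) u, B.add_left, herm_add_pow hF, ← B.conj, ← B.conj]

theorem smul_right (a : F) (u v : V) : B u (a • v) = a ^ q * B u v := by
  rw [B.conj (a • v) u, B.smul_left, mul_pow, ← B.conj]

theorem zero_right (hq : q ≠ 0) (w : V) : B w 0 = 0 := by
  rw [B.conj 0 w, B.zero_left, zero_pow hq]

theorem herm_sum_pow (hF : Fintype.card F = q ^ 2) {ι : Type*} (s : Finset ι) (f : ι → F) :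
    (∑ i ∈ s, f i) ^ q = ∑ i ∈ s, f i ^ q := by
  obtain ⟨p, hp, hc, j, rfl⟩ := herm_q_eq_pow hF
  exact sum_pow_char_pow p j s f

theorem sum_left {ι : Type*} (s : Finset ι) (a : ι → F) (x : ι → V) (w : V) :
    B (∑ i ∈ s, a i • x i) w = ∑ i ∈ s, a i * B (x i) w := by
  have h := map_sum (B.lin w) (fun i => a i • x i) s
  rw [lin_apply] at h
  rw [h]
  apply Finset.sum_congr rfl
  intro i _
  rw [lin_apply, B.smul_left]

theorem sum_right (hF : Fintype.card F = q ^ 2) {ι : Type*} (s : Finset ι) (b : ι → F)
    (x : ι → V) (w : V) :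
    B w (∑ i ∈ s, b i • x i) = ∑ i ∈ s, (b i) ^ q * B w (x i) := by
  rw [B.conj, B.sum_left, herm_sum_pow hF]
  apply Finset.sum_congr rfl
  intro i _
  rw [mul_pow, ← B.conj]

theorem eq_zero_symm {u v : V} (h : B u v = 0) (hq : q ≠ 0) : B v u = 0 := by
  rw [B.conj u v, h, zero_pow hq]

/-- The orthogonal complement of a vector. -/
def perp (w : V) : Submodule F V := LinearMap.ker (B.lin w)

theorem mem_perp {w u : V} : u ∈ B.perp w ↔ B u w = 0 := by
  simp [perp, LinearMap.mem_ker]

/-- Restriction to a submodule. -/
def restrict (W : Submodule F V) : HermForm F q W where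
  toFun u v := B u v
  add_left u v w := B.add_left u v w
  smul_left a u w := B.smul_left a u w
  conj u v := B.conj u v

@[simp] theorem restrict_apply (W : Submodule F V) (u v : W) : B.restrict W u v = B u v := rfl

/-- Nondegeneracy. -/
def Nondeg : Prop := ∀ u, (∀ v, B v u = 0) → u = 0

variable {B}

theorem finrank_perp [FiniteDimensional F V] {w : V} (hw : B w w = 1) :
    finrank F (B.perp w) = finrank F V - 1 := by
  have hsurj : Function.Surjective (B.lin w) := by
    intro c
    refine ⟨c • w, ?_⟩
    rw [lin_apply, B.smul_left, hw, mul_one]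
  have h := LinearMap.finrank_range_add_finrank_ker (B.lin w)
  rw [LinearMap.range_eq_top.mpr hsurj, finrank_top, Module.finrank_self] at h
  unfold perp
  omega

theorem nondeg_restrict_perp (hF : Fintype.card F = q ^ 2) (hB : B.Nondeg) {w : V}
    (hw : B w w = 1) : (B.restrict (B.perp w)).Nondeg := by
  have hq : q ≠ 0 := by have := herm_two_le hF; omega
  intro u hu
  have hu0 : (u : V) = 0 := by
    apply hB
    intro x
    have hmem : x - (B x w) • w ∈ B.perp w := by
      rw [B.mem_perp, B.sub_left, B.smul_left, hw, mul_one, sub_self]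
    have h1 := hu ⟨_, hmem⟩
    rw [restrict_apply] at h1
    simp only at h1
    rw [B.sub_left, B.smul_left] at h1
    have h2 : B w (u : V) = 0 := B.eq_zero_symm (B.mem_perp.mp u.2) hq
    rw [h2, mul_zero, sub_zero] at h1
    exact h1
  exact Subtype.ext hu0


theorem exists_trace_ne_zero (hF : Fintype.card F = q ^ 2) : ∃ c : F, c + c ^ q ≠ 0 := by
  classical
  by_contra h
  push Not at h
  have hq := herm_two_le hF
  have h1 := h 1
  rw [one_pow] at h1
  have hfix : ∀ c : F, c ^ q = c := by
    intro c
    have hc := h c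
    have h2 : c + c = 0 := by
      have : c * (1 + 1) = 0 := by rw [h1, mul_zero]
      linear_combination this
    linear_combination hc - h2
  obtain ⟨hcard, -⟩ := herm_sandwich hF
  have h3 : (hermFixed F q).card = q ^ 2 - 1 := by
    have : hermFixed F q = Finset.univ.erase 0 := by
      ext y
      simp [mem_hermFixed, hfix]
    rw [this, Finset.card_erase_of_mem (Finset.mem_univ _), Finset.card_univ, hF]
  rw [hcard] at h3
  have h4 : q ^ 2 ≥ 2 * q := by nlinarith
  omega

theorem exists_norm_one (hF : Fintype.card F = q ^ 2) (hB : B.Nondeg) [Nontrivial V] :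
    ∃ w, B w w = 1 := by
  classical
  have hq2 := herm_two_le hF
  have hq : q ≠ 0 := by omega
  have hz : ∃ z, B z z ≠ 0 := by
    by_contra hall
    push Not at hall
    obtain ⟨u, hu⟩ := exists_ne (0 : V)
    have : ∃ v, B v u ≠ 0 := by
      by_contra hn
      push Not at hn
      exact hu (hB u hn)
    obtain ⟨v, hv⟩ := this
    obtain ⟨c, hc⟩ := exists_trace_ne_zero hF
    have h1 : B ((c / B v u) • v) u = c := by rw [B.smul_left, div_mul_cancel₀ _ hv]
    have h2 := hall ((c / B v u) • v + u)
    rw [B.add_left, B.add_right hF, B.add_right hF, hall, hall, h1, B.conj ((c / B v u) • v) u,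
      h1] at h2
    apply hc
    linear_combination h2
  obtain ⟨z, hz⟩ := hz
  have htq : (B z z) ^ q = B z z := (B.conj z z).symm
  have hmem : (B z z)⁻¹ ∈ hermFixed F q := by
    rw [mem_hermFixed]
    exact ⟨inv_ne_zero hz, by rw [inv_pow, htq]⟩
  obtain ⟨-, hfib⟩ := herm_sandwich hF
  have hpos : 0 < (Finset.univ.filter (fun x : F => x ^ (q + 1) = (B z z)⁻¹)).card := by
    rw [hfib _ hmem]; omega
  obtain ⟨l, hl⟩ := Finset.card_pos.mp hpos
  rw [Finset.mem_filter] at hl
  refine ⟨l • z, ?_⟩
  rw [B.smul_left, B.smul_right, ← mul_assoc, ← pow_succ', hl.2, inv_mul_cancel₀ hz]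

theorem norm_smul_add (hF : Fintype.card F = q ^ 2) {w : V} (hw : B w w = 1) (a : F) {u : V}
    (hu : B u w = 0) : B (a • w + u) (a • w + u) = a ^ (q + 1) + B u u := by
  have hq : q ≠ 0 := by have := herm_two_le hF; omega
  have hwu : B w u = 0 := B.eq_zero_symm hu hq
  simp only [B.add_left, B.add_right hF, B.smul_left, B.smul_right, hw, hu, hwu]
  ring

/-- The vectors `v` of norm `t` with `B v w = a` correspond to the vectors of norm `t - a^(q+1)`
in the orthogonal complement of the norm one vector `w`. -/
noncomputable def normFibreEquiv (hF : Fintype.card F = q ^ 2) {w : V} (hw : B w w = 1) (t a : F) :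
    {v : {v : V // B v v = t} // B v.1 w = a} ≃
      {u : B.perp w // (B.restrict (B.perp w)) u u = t - a ^ (q + 1)} where
  toFun v := ⟨⟨v.1.1 - a • w, by
      rw [B.mem_perp, B.sub_left, B.smul_left, hw, mul_one, v.2, sub_self]⟩, by
      have hu : B (v.1.1 - a • w) w = 0 := by
        rw [B.sub_left, B.smul_left, hw, mul_one, v.2, sub_self]
      have h := norm_smul_add hF hw a hu
      rw [add_sub_cancel, v.1.2] at h
      rw [restrict_apply]
      simp only
      exact eq_sub_of_add_eq' h.symm⟩
  invFun u := ⟨⟨a • w + u.1.1, by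
      have h := u.2
      rw [restrict_apply] at h
      rw [norm_smul_add hF hw a (B.mem_perp.mp u.1.2), h]
      ring⟩, by
      show B (a • w + u.1.1) w = a
      rw [B.add_left, B.smul_left, hw, B.mem_perp.mp u.1.2]
      ring⟩
  left_inv v := by
    apply Subtype.ext
    apply Subtype.ext
    simp
  right_inv u := by
    apply Subtype.ext
    apply Subtype.ext
    simp

end HermForm

universe u

open HermForm in
/-- Number of vectors of norm `t` in a nondegenerate Hermitian space of dimension `d`. -/
theorem card_norm {F : Type*} [Field F] [Fintype F] {q : ℕ} (hF : Fintype.card F = q ^ 2) (d : ℕ) :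
    ∀ (V : Type u) [AddCommGroup V] [Module F V] [FiniteDimensional F V] (B : HermForm F q V),
      B.Nondeg → finrank F V = d → ∀ t : F, Nat.card {v : V // B v v = t} = hermCount F q d t := by
  classical
  have hq : q ≠ 0 := by have := herm_two_le hF; omega
  induction d with
  | zero =>
    intro V _ _ _ B hB hd t
    haveI : Subsingleton V := (Module.finrank_zero_iff (R := F)).mp hd
    rw [hermCount_zero]
    split_ifs with ht
    · subst ht
      rw [Nat.card_eq_one_iff_unique]
      refine ⟨⟨?_⟩, ⟨⟨0, B.zero_left 0⟩⟩⟩
      rintro ⟨v, _⟩ ⟨w, _⟩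
      apply Subtype.ext
      exact Subsingleton.elim _ _
    · have : IsEmpty {v : V // B v v = t} := by
        constructor
        rintro ⟨v, hv⟩
        rw [Subsingleton.elim v 0, B.zero_left] at hv
        exact ht hv.symm
      exact Nat.card_of_isEmpty
  | succ d ih =>
    intro V _ _ _ B hB hd t
    haveI : Nontrivial V := Module.nontrivial_of_finrank_pos (R := F) (by omega)
    obtain ⟨w, hw⟩ := exists_norm_one hF hB
    haveI : Finite V := Module.finite_of_finite F
    rw [hermCount_succ]
    rw [← Nat.card_congr (Equiv.sigmaFiberEquiv (fun v : {v : V // B v v = t} => B v.1 w)),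
      Nat.card_sigma]
    apply Finset.sum_congr rfl
    intro a _
    rw [Nat.card_congr (normFibreEquiv hF hw t a)]
    exact ih _ (B.restrict (B.perp w)) (nondeg_restrict_perp hF hB hw)
      (by rw [finrank_perp hw, hd]; rfl) _

section frames

variable {F : Type*} [Field F] [Fintype F] {q : ℕ}
variable {V : Type*} [AddCommGroup V] [Module F V]

/-- Orthonormal families. -/
def IsOrthoFam (B : HermForm F q V) (n : ℕ) (x : Fin n → V) : Prop :=
  ∀ i j, B (x i) (x j) = if i = j then 1 else 0

/-- The first vector of an orthonormal family. -/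
def orthoHead (B : HermForm F q V) (n : ℕ) (x : {x : Fin (n+1) → V // IsOrthoFam B (n+1) x}) :
    {w : V // B w w = 1} :=
  ⟨x.1 0, by simpa using x.2 0 0⟩

variable {B : HermForm F q V}

theorem orthoHead_eq {n : ℕ} {w : {w : V // B w w = 1}}
    (x : {x : {x : Fin (n+1) → V // IsOrthoFam B (n+1) x} // orthoHead B n x = w}) :
    w.1 = x.1.1 0 :=
  (congrArg (fun z : {w : V // B w w = 1} => z.1) x.2).symm

/-- The fibre of `orthoHead` over `w` is the set of orthonormal families of the orthogonal
complement of `w`. -/
noncomputable def orthoFibreEquiv (hq : q ≠ 0) (n : ℕ) (w : {w : V // B w w = 1}) :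
    {x : {x : Fin (n+1) → V // IsOrthoFam B (n+1) x} // orthoHead B n x = w} ≃
    {y : Fin n → B.perp w.1 // IsOrthoFam (B.restrict (B.perp w.1)) n y} where
  toFun x := ⟨fun i => ⟨x.1.1 i.succ, by
        rw [B.mem_perp, orthoHead_eq x, x.1.2 i.succ 0]
        simp [Fin.succ_ne_zero]⟩, fun i j => by
      show B (x.1.1 i.succ) (x.1.1 j.succ) = _
      rw [x.1.2]
      simp [Fin.succ_inj]⟩
  invFun y := ⟨⟨Fin.cons w.1 (fun i => (y.1 i : V)), by
      intro i j
      refine Fin.cases ?_ (fun i => ?_) i <;> refine Fin.cases ?_ (fun j => ?_) j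
      · simpa using w.2
      · simpa [(Fin.succ_ne_zero j).symm] using B.eq_zero_symm (B.mem_perp.mp (y.1 j).2) hq
      · simpa [Fin.succ_ne_zero] using B.mem_perp.mp (y.1 i).2
      · simpa [Fin.succ_inj] using y.2 i j⟩, by
      apply Subtype.ext
      simp [orthoHead]⟩
  left_inv x := by
    apply Subtype.ext
    apply Subtype.ext
    have h1 : x.1.1 0 = w.1 := (orthoHead_eq x).symm
    funext i
    refine Fin.cases ?_ (fun i => ?_) i
    · simp [h1]
    · simp
  right_inv y := by
    apply Subtype.ext
    funext i
    apply Subtype.ext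
    simp

end frames

/-- Number of orthonormal bases of a nondegenerate Hermitian space of dimension `n`. -/
theorem card_orthoFam {F : Type*} [Field F] [Fintype F] {q : ℕ} (hF : Fintype.card F = q ^ 2)
    (n : ℕ) :
    ∀ (V : Type u) [AddCommGroup V] [Module F V] [FiniteDimensional F V] (B : HermForm F q V),
      B.Nondeg → finrank F V = n →
      Nat.card {x : Fin n → V // IsOrthoFam B n x} =
        ∏ i ∈ Finset.range n, hermCount F q (i + 1) 1 := by
  classical
  have hq : q ≠ 0 := by have := herm_two_le hF; omega
  induction n with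
  | zero =>
    intro V _ _ _ B _ _
    have : Unique {x : Fin 0 → V // IsOrthoFam B 0 x} :=
      { default := ⟨Fin.elim0, fun i => i.elim0⟩
        uniq := fun p => by
          apply Subtype.ext
          funext i
          exact i.elim0 }
    simp
  | succ n ih =>
    intro V _ _ _ B hB hd
    haveI : Finite V := Module.finite_of_finite F
    haveI := Fintype.ofFinite V
    rw [← Nat.card_congr (Equiv.sigmaFiberEquiv (orthoHead B n)), Nat.card_sigma]
    have hfib : ∀ w : {w : V // B w w = 1},
        Nat.card {x : {x : Fin (n+1) → V // IsOrthoFam B (n+1) x} // orthoHead B n x = w}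
          = ∏ i ∈ Finset.range n, hermCount F q (i + 1) 1 := by
      intro w
      rw [Nat.card_congr (orthoFibreEquiv hq n w)]
      apply ih
      · exact HermForm.nondeg_restrict_perp hF hB w.2
      · rw [HermForm.finrank_perp w.2, hd]
        rfl
    simp only [hfib, Finset.sum_const, Finset.card_univ, smul_eq_mul]
    rw [← Nat.card_eq_fintype_card, card_norm hF (n + 1) V B hB hd 1, Finset.prod_range_succ]
    ring

end Cfsg.Agent.Lead
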