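import Mathlib
import Cfsg.Prelude.Def_LieClassical
import Cfsg.Agent.Lib.Lead.UnitaryCard

/-!
# Orders of `GU_n(q)` and `SU_n(q)`
-/

set_option autoImplicit false
set_option linter.style.haveILetI false
set_option linter.unusedSectionVars false

namespace Cfsg.Agent.Lead

open Module Matrix Cfsg.Agent.Helper19

variable {F : Type*} [Field F] [Fintype F] {q : ℕ}

/-- The standard Hermitian form as a `HermForm`. -/
def stdHerm (hF : Fintype.card F = q ^ 2) (n : ℕ) : HermForm F q (Fin n → F) where
  toFun := Cfsg.hermForm n F q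
  add_left u v w := by
    simp [Cfsg.hermForm, add_mul, Finset.sum_add_distrib]
  smul_left a u w := by
    simp [Cfsg.hermForm, Finset.mul_sum, mul_assoc]
  conj u v := by
    unfold Cfsg.hermForm
    rw [HermForm.herm_sum_pow hF]
    apply Finset.sum_congr rfl
    intro i _
    have h := FiniteField.pow_card (v i)
    rw [hF] at h
    rw [mul_pow, ← pow_mul, ← sq, h, mul_comm]

@[simp] theorem stdHerm_apply (hF : Fintype.card F = q ^ 2) (n : ℕ) (u v : Fin n → F) :
    stdHerm hF n u v = Cfsg.hermForm n F q u v := rfl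

theorem hermForm_single_left (n : ℕ) (i : Fin n) (u : Fin n → F) :
    Cfsg.hermForm n F q (Pi.single i 1) u = (u i) ^ q := by
  unfold Cfsg.hermForm
  rw [Finset.sum_eq_single i]
  · simp
  · intro j _ hj
    simp [hj]
  · simp

theorem stdHerm_nondeg (hF : Fintype.card F = q ^ 2) (n : ℕ) : (stdHerm hF n).Nondeg := by
  intro u hu
  funext i
  have h := hu (Pi.single i 1)
  rw [stdHerm_apply, hermForm_single_left] at h
  exact pow_eq_zero_iff (by have := herm_two_le hF; omega) |>.mp h

theorem hermForm_single_single (hq : q ≠ 0) (n : ℕ) (i j : Fin n) :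
    Cfsg.hermForm n F q (Pi.single i 1) (Pi.single j 1) = if i = j then 1 else 0 := by
  rw [hermForm_single_left]
  by_cases h : i = j
  · subst h
    simp
  · rw [if_neg h, Pi.single_eq_of_ne h, zero_pow hq]

/-- The matrix with given columns. -/
def colMat {n : ℕ} (x : Fin n → (Fin n → F)) : Matrix (Fin n) (Fin n) F := (Matrix.of x)ᵀ

theorem colMat_mulVec {n : ℕ} (x : Fin n → (Fin n → F)) (u : Fin n → F) :
    colMat x *ᵥ u = ∑ i, u i • x i := by
  rw [Matrix.mulVec_eq_sum]
  apply Finset.sum_congr rfl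
  intro i _
  rw [op_smul_eq_smul]
  rfl

theorem colMat_preserves (hF : Fintype.card F = q ^ 2) {n : ℕ} (x : Fin n → (Fin n → F))
    (hx : IsOrthoFam (stdHerm hF n) n x) (u v : Fin n → F) :
    Cfsg.hermForm n F q (colMat x *ᵥ u) (colMat x *ᵥ v) = Cfsg.hermForm n F q u v := by
  classical
  rw [colMat_mulVec, colMat_mulVec, ← stdHerm_apply hF, HermForm.sum_left]
  show _ = ∑ i, u i * v i ^ q
  apply Finset.sum_congr rfl
  intro i _
  rw [HermForm.sum_right _ hF]
  congr 1
  rw [Finset.sum_eq_single i]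
  · rw [hx i i, if_pos rfl, mul_one]
  · intro j _ hj
    rw [hx i j, if_neg (Ne.symm hj), mul_zero]
  · simp

theorem colMat_isUnit (hF : Fintype.card F = q ^ 2) {n : ℕ} (x : Fin n → (Fin n → F))
    (hx : IsOrthoFam (stdHerm hF n) n x) : IsUnit (colMat x) := by
  have hq : q ≠ 0 := by have := herm_two_le hF; omega
  rw [← Matrix.mulVec_injective_iff_isUnit]
  intro u₁ u₂ h12
  have hu : colMat x *ᵥ (u₁ - u₂) = 0 := by rw [Matrix.mulVec_sub, h12, sub_self]
  rw [← sub_eq_zero]
  apply stdHerm_nondeg hF n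
  intro v
  rw [stdHerm_apply, ← colMat_preserves hF x hx, hu]
  exact (stdHerm hF n).zero_right hq _

theorem mem_GU_iff {n : ℕ} (g : Matrix.GeneralLinearGroup (Fin n) F) :
    g ∈ Cfsg.GU n F q ↔ ∀ u v, Cfsg.hermForm n F q ((g : Matrix (Fin n) (Fin n) F) *ᵥ u)
      ((g : Matrix (Fin n) (Fin n) F) *ᵥ v) = Cfsg.hermForm n F q u v := Iff.rfl

/-- The columns of a unitary matrix. -/
def guCols (hF : Fintype.card F = q ^ 2) (n : ℕ) (g : Cfsg.GU n F q) :
    {x : Fin n → (Fin n → F) // IsOrthoFam (stdHerm hF n) n x} :=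
  ⟨fun i => (g.1 : Matrix (Fin n) (Fin n) F) *ᵥ Pi.single i 1, fun i j => by
    have hq : q ≠ 0 := by have := herm_two_le hF; omega
    rw [stdHerm_apply, (mem_GU_iff g.1).mp g.2, hermForm_single_single hq]⟩

theorem guCols_bijective (hF : Fintype.card F = q ^ 2) (n : ℕ) :
    Function.Bijective (guCols hF n) := by
  constructor
  · intro g h hgh
    apply Subtype.ext
    apply Units.ext
    ext i j
    have := congrFun (congrFun (congrArg Subtype.val hgh) j) i
    simpa [guCols, Matrix.mulVec_single_one] using this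
  · intro x
    let g : Matrix.GeneralLinearGroup (Fin n) F := (colMat_isUnit hF x.1 x.2).unit
    have hg : (g : Matrix (Fin n) (Fin n) F) = colMat x.1 := rfl
    refine ⟨⟨g, ?_⟩, ?_⟩
    · rw [mem_GU_iff, hg]
      exact colMat_preserves hF x.1 x.2
    · apply Subtype.ext
      funext i
      show (g : Matrix (Fin n) (Fin n) F) *ᵥ Pi.single i 1 = x.1 i
      rw [hg, colMat_mulVec]
      rw [Finset.sum_eq_single i]
      · simp
      · intro j _ hj
        simp [hj]
      · simp

/-- The order of `GU_n(q)` as a product of the numbers of vectors of norm one. -/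
theorem card_GU_eq_prod (hF : Fintype.card F = q ^ 2) (n : ℕ) :
    Nat.card (Cfsg.GU n F q) = ∏ i ∈ Finset.range n, hermCount F q (i + 1) 1 := by
  rw [Nat.card_congr (Equiv.ofBijective _ (guCols_bijective hF n))]
  apply card_orthoFam hF n _ _ (stdHerm_nondeg hF n)
  simp

theorem prod_hermCount_one (hF : Fintype.card F = q ^ 2) (n : ℕ) :
    ∏ i ∈ Finset.range n, hermCount F q (i + 1) 1 =
      q ^ (n * (n - 1) / 2) *
        ∏ i ∈ Finset.range n, (if Even i then q ^ (i + 1) + 1 else q ^ (i + 1) - 1) := by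
  rw [← Finset.sum_range_id, ← Finset.prod_pow_eq_pow_sum, ← Finset.prod_mul_distrib]
  apply Finset.prod_congr rfl
  intro i _
  rw [hermCount_one hF]
  have e : i + 1 - 1 = i := by omega
  rw [e]
  by_cases hi : Even i
  · rw [if_neg (by rw [Nat.even_add_one]; exact not_not.mpr hi), if_pos hi]
  · rw [if_pos (by rw [Nat.even_add_one]; exact hi), if_neg hi]

/-- Order of the general unitary group. -/
theorem card_GU (hF : Fintype.card F = q ^ 2) (n : ℕ) :
    Nat.card (Cfsg.GU n F q) = q ^ (n * (n - 1) / 2) *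
      ∏ i ∈ Finset.range n, (if Even i then q ^ (i + 1) + 1 else q ^ (i + 1) - 1) := by
  rw [card_GU_eq_prod hF, prod_hermCount_one hF]


section SU

variable {n : ℕ}

theorem GU_transpose_mul (hF : Fintype.card F = q ^ 2) (g : Matrix.GeneralLinearGroup (Fin n) F)
    (hg : g ∈ Cfsg.GU n F q) :
    (g : Matrix (Fin n) (Fin n) F)ᵀ * (g : Matrix (Fin n) (Fin n) F).map (· ^ q) = 1 := by
  have hq : q ≠ 0 := by have := herm_two_le hF; omega
  ext i j
  have h := (mem_GU_iff g).mp hg (Pi.single i 1) (Pi.single j 1)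
  rw [hermForm_single_single hq, Matrix.mulVec_single_one, Matrix.mulVec_single_one] at h
  rw [Matrix.mul_apply, Matrix.one_apply, ← h]
  rfl

theorem GU_det_pow (hF : Fintype.card F = q ^ 2) (g : Matrix.GeneralLinearGroup (Fin n) F)
    (hg : g ∈ Cfsg.GU n F q) : (Matrix.det (g : Matrix (Fin n) (Fin n) F)) ^ (q + 1) = 1 := by
  have h := congrArg Matrix.det (GU_transpose_mul hF g hg)
  obtain ⟨p, hp, hc, j, rfl⟩ := herm_q_eq_pow hF
  rw [Matrix.det_mul, Matrix.det_transpose, Matrix.det_one] at h
  have h2 : ((g : Matrix (Fin n) (Fin n) F).map (· ^ (p ^ j))).det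
      = (Matrix.det (g : Matrix (Fin n) (Fin n) F)) ^ (p ^ j) := by
    have h3 := RingHom.map_det (iterateFrobenius F p j) (g : Matrix (Fin n) (Fin n) F)
    rw [iterateFrobenius_def] at h3
    rw [h3]
    rfl
  rw [h2, ← pow_succ'] at h
  exact h

/-- The determinant on `GU_n`. -/
noncomputable def guDet (n : ℕ) (F : Type*) [Field F] (q : ℕ) : Cfsg.GU n F q →* Fˣ :=
  Matrix.GeneralLinearGroup.det.comp (Cfsg.GU n F q).subtype

theorem guDet_val (g : Cfsg.GU n F q) :
    ((guDet n F q g : Fˣ) : F) = Matrix.det (g.1 : Matrix (Fin n) (Fin n) F) := rfl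

theorem diag_mem_GU (d : Fin n → F) (hd : ∀ i, d i ^ (q + 1) = 1)
    (g : Matrix.GeneralLinearGroup (Fin n) F)
    (hg : (g : Matrix (Fin n) (Fin n) F) = Matrix.diagonal d) : g ∈ Cfsg.GU n F q := by
  rw [mem_GU_iff, hg]
  intro u v
  unfold Cfsg.hermForm
  apply Finset.sum_congr rfl
  intro i _
  rw [Matrix.mulVec_diagonal, Matrix.mulVec_diagonal, mul_pow]
  have : d i * u i * (d i ^ q * v i ^ q) = d i ^ (q + 1) * (u i * v i ^ q) := by ring
  rw [this, hd, one_mul]

theorem guDet_range (hF : Fintype.card F = q ^ 2) (hn : 1 ≤ n) (l : Fˣ) :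
    l ∈ (guDet n F q).range ↔ l ^ (q + 1) = 1 := by
  classical
  constructor
  · rintro ⟨g, rfl⟩
    apply Units.ext
    rw [Units.val_pow_eq_pow_val, guDet_val, GU_det_pow hF g.1 g.2]
    rfl
  · intro hl
    have hl' : (l : F) ^ (q + 1) = 1 := by
      rw [← Units.val_pow_eq_pow_val, hl]
      rfl
    let i0 : Fin n := ⟨0, hn⟩
    let d : Fin n → F := Function.update (fun _ => (1 : F)) i0 (l : F)
    have hd : ∀ i, d i ^ (q + 1) = 1 := by
      intro i
      by_cases hi : i = i0
      · subst hi
        simp [d, hl']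
      · simp [d, Function.update_of_ne hi]
    have hdet : Matrix.det (Matrix.diagonal d) = (l : F) := by
      rw [Matrix.det_diagonal, Fintype.prod_eq_single i0]
      · simp [d]
      · intro i hi
        simp [d, Function.update_of_ne hi]
    have hne : Matrix.det (Matrix.diagonal d) ≠ 0 := by
      rw [hdet]
      exact l.ne_zero
    let g : Matrix.GeneralLinearGroup (Fin n) F :=
      Matrix.GeneralLinearGroup.mkOfDetNeZero (Matrix.diagonal d) hne
    have hg : g ∈ Cfsg.GU n F q := diag_mem_GU d hd g rfl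
    refine ⟨⟨g, hg⟩, ?_⟩
    apply Units.ext
    rw [guDet_val]
    exact hdet

theorem card_norm_one_units (hF : Fintype.card F = q ^ 2) :
    Nat.card {l : Fˣ // l ^ (q + 1) = 1} = q + 1 := by
  classical
  have e : {l : Fˣ // l ^ (q + 1) = 1} ≃ {x : F // x ^ (q + 1) = 1} :=
    { toFun := fun l => ⟨(l.1 : F), by
        rw [← Units.val_pow_eq_pow_val, l.2]
        rfl⟩
      invFun := fun x => ⟨Units.mk0 x.1 (by
        intro h
        have := x.2
        rw [h, zero_pow (by omega)] at this
        exact zero_ne_one this), by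
        apply Units.ext
        rw [Units.val_pow_eq_pow_val]
        exact x.2⟩
      left_inv := fun l => by
        apply Subtype.ext
        apply Units.ext
        rfl
      right_inv := fun x => by
        apply Subtype.ext
        rfl }
  rw [Nat.card_congr e, Nat.card_eq_fintype_card, Fintype.card_subtype]
  exact (herm_sandwich hF).2 1 one_mem_hermFixed

/-- `SU_n` as the kernel of the determinant on `GU_n`. -/
def suToKer (s : Cfsg.SU n F q) : (guDet n F q).ker :=
  ⟨⟨Matrix.SpecialLinearGroup.toGL s.1, s.2⟩, by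
    rw [MonoidHom.mem_ker]
    apply Units.ext
    rw [guDet_val]
    exact s.1.2⟩

theorem suToKer_bijective : Function.Bijective (suToKer (n := n) (F := F) (q := q)) := by
  constructor
  · intro s t hst
    apply Subtype.ext
    apply Matrix.SpecialLinearGroup.toGL_injective
    exact congrArg (fun k : (guDet n F q).ker => (k.1.1 : Matrix.GeneralLinearGroup (Fin n) F)) hst
  · intro k
    have hk : Matrix.det (k.1.1 : Matrix (Fin n) (Fin n) F) = 1 := by
      have := k.2
      rw [MonoidHom.mem_ker] at this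
      rw [← guDet_val, this]
      rfl
    refine ⟨⟨⟨(k.1.1 : Matrix (Fin n) (Fin n) F), hk⟩, ?_⟩, ?_⟩
    · exact k.1.2
    · apply Subtype.ext
      apply Subtype.ext
      apply Units.ext
      rfl

/-- Order of the special unitary group. -/
theorem card_SU_mul (hF : Fintype.card F = q ^ 2) (hn : 1 ≤ n) :
    (q + 1) * Nat.card (Cfsg.SU n F q) = Nat.card (Cfsg.GU n F q) := by
  rw [← Subgroup.card_mul_index (guDet n F q).ker, Subgroup.index_ker,
    Nat.card_congr (Equiv.ofBijective _ (suToKer_bijective (n := n) (F := F) (q := q))), mul_comm]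
  congr 1
  rw [← card_norm_one_units hF]
  apply Nat.card_congr
  exact Equiv.subtypeEquivRight (fun l => (guDet_range hF hn l).symm)

end SU

end Cfsg.Agent.Lead
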