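import Mathlib
import Cfsg.Agent.Lib.Helper14.ReflGen
import Cfsg.Agent.Lib.Helper43.QuadWitt
import Cfsg.Agent.Lib.Helper14.IsomTransfer

/-!
# The centre of `Ω(Q)` consists of scalars

For a quadratic form with a hyperbolic family of length at least 3 (any characteristic), Eichler
transformations `E_{u,y}` with `u` in the family lie in the commutator subgroup `Ω` of the isometry
group, and an isometry commuting with all of them is a scalar.
-/

set_option autoImplicit false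
set_option linter.unusedSectionVars false
set_option linter.unusedSimpArgs false

namespace Cfsg.Agent.Lead.OmegaCenter

open scoped commutatorElement
open Matrix QuadraticMap Cfsg.Agent.S0794 Cfsg.Agent.Helper14.ReflGen Cfsg.Agent.Helper43

variable {F : Type*} [Field F] {ι : Type} [Fintype ι] [DecidableEq ι]
  (Q : QuadraticForm F (ι → F))

/-- A matrix is the matrix of an element of `Ω(Q)`. -/
def InOmega (M : Matrix ι ι F) : Prop :=
  ∃ g : ↥(Cfsg.isometryGroup F ⇑Q), g ∈ Cfsg.Omega F ⇑Q ∧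
    ((g : Matrix.GeneralLinearGroup ι F) : Matrix ι ι F) = M

theorem InOmega.mul {M N : Matrix ι ι F} (hM : InOmega Q M) (hN : InOmega Q N) :
    InOmega Q (M * N) := by
  obtain ⟨g, hg, rfl⟩ := hM
  obtain ⟨h, hh, rfl⟩ := hN
  exact ⟨g * h, Subgroup.mul_mem _ hg hh, rfl⟩

/-- Eichler transformation as an isometry. -/
def eichIso (u w : ι → F) (hu : Q u = 0) (huw : polar (⇑Q) u w = 0) :
    ↥(Cfsg.isometryGroup F ⇑Q) :=
  ⟨eichGL Q u w hu huw, by
    rw [Cfsg.Agent.Helper14.mem_isometryGroup_iff]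
    intro x
    exact eichM_isometry Q u w hu huw x⟩

theorem eichIso_coe (u w : ι → F) (hu : Q u = 0) (huw : polar (⇑Q) u w = 0) :
    ((eichIso Q u w hu huw : Matrix.GeneralLinearGroup ι F) : Matrix ι ι F) = eichM Q u w := rfl

theorem isom_of_mem (g : ↥(Cfsg.isometryGroup F ⇑Q)) (x : ι → F) :
    Q (((g : Matrix.GeneralLinearGroup ι F) : Matrix ι ι F) *ᵥ x) = Q x :=
  (Cfsg.Agent.Helper14.mem_isometryGroup_iff _ _).1 g.2 x

/-- Key lemma: if the isometry `g` fixes the singular vector `u` and `w ⊥ u`, then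
`E_{u, g w - w} = [g, E_{u,w}]` lies in `Ω`. -/
theorem inOmega_eich_sub (g : ↥(Cfsg.isometryGroup F ⇑Q)) (u w : ι → F) (hu : Q u = 0)
    (huw : polar (⇑Q) u w = 0)
    (hgu : ((g : Matrix.GeneralLinearGroup ι F) : Matrix ι ι F) *ᵥ u = u) :
    InOmega Q (eichM Q u (((g : Matrix.GeneralLinearGroup ι F) : Matrix ι ι F) *ᵥ w - w)) := by
  set G : Matrix ι ι F := ((g : Matrix.GeneralLinearGroup ι F) : Matrix ι ι F) with hG
  set G' : Matrix ι ι F := (((g⁻¹ : ↥(Cfsg.isometryGroup F ⇑Q)) : Matrix.GeneralLinearGroup ι F) : Matrix ι ι F) with hG'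
  have hGG' : G * G' = 1 := by
    have h : G * G' = (((g * g⁻¹ : ↥(Cfsg.isometryGroup F ⇑Q)) : Matrix.GeneralLinearGroup ι F) :
        Matrix ι ι F) := rfl
    rw [h, mul_inv_cancel]
    rfl
  have hugw : polar (⇑Q) u (G *ᵥ w) = 0 := by
    have := polar_of_isometry Q G (isom_of_mem Q g) u w
    rw [hgu] at this
    rw [this, huw]
  have hunw : polar (⇑Q) u (-w) = 0 := by rw [polar_neg_right, huw, neg_zero]
  refine ⟨⁅g, eichIso Q u w hu huw⁆,
    Subgroup.commutator_mem_commutator (Subgroup.mem_top _) (Subgroup.mem_top _), ?_⟩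
  have h1 : ((⁅g, eichIso Q u w hu huw⁆ : ↥(Cfsg.isometryGroup F ⇑Q)) :
      Matrix.GeneralLinearGroup ι F) =
      (g : Matrix.GeneralLinearGroup ι F) * eichGL Q u w hu huw *
        ((g⁻¹ : ↥(Cfsg.isometryGroup F ⇑Q)) : Matrix.GeneralLinearGroup ι F) *
        (eichGL Q u w hu huw)⁻¹ := rfl
  rw [h1]
  have h2 : ((eichGL Q u w hu huw)⁻¹ : Matrix.GeneralLinearGroup ι F).val = eichM Q u (-w) := rfl
  rw [Units.val_mul, Units.val_mul, Units.val_mul, h2]
  show G * eichM Q u w * G' * eichM Q u (-w) = _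
  rw [eichM_conj Q G G' hGG' (isom_of_mem Q g), hgu, eichM_mul Q u _ _ hu hugw hunw, sub_eq_add_neg]

theorem IsHypFamily_swap {k : ℕ} {e f : Fin k → ι → F} (h : IsHypFamily Q e f) :
    IsHypFamily Q f e where
  qe := h.qf
  qf := h.qe
  ef i j := by
    rw [polar_comm, h.ef]
    by_cases hij : i = j
    · subst hij; simp
    · rw [if_neg hij, if_neg (fun h' => hij h'.symm)]
  ee := h.ff
  ff := h.ee

theorem exists_third {k : ℕ} (hk : 3 ≤ k) (i j : Fin k) : ∃ l : Fin k, l ≠ i ∧ l ≠ j := by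
  by_contra hcon
  push Not at hcon
  have hsub : (Finset.univ : Finset (Fin k)) ⊆ {i, j} := by
    intro l _
    by_cases hl : l = i
    · simp [hl]
    · simp [hcon l hl]
  have h1 := Finset.card_le_card hsub
  have h2 : ({i, j} : Finset (Fin k)).card ≤ 2 := Finset.card_le_two
  rw [Finset.card_univ, Fintype.card_fin] at h1
  omega

/-- Long root elements `E_{e_i, c e_j}` lie in `Ω` (needs a third index). -/
theorem inOmega_eich_ee {k : ℕ} {e f : Fin k → ι → F} (h : IsHypFamily Q e f)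
    (i j l : Fin k) (hij : i ≠ j) (hli : l ≠ i) (hlj : l ≠ j) (c : F) :
    InOmega Q (eichM Q (e i) (c • e j)) := by
  have h1 : polar (⇑Q) (e l) (c • e j) = 0 := by rw [polar_smul_right, h.ee, smul_zero]
  have huw : polar (⇑Q) (e i) (f l) = 0 := by rw [h.ef, if_neg (fun h' => hli h'.symm)]
  have key := inOmega_eich_sub Q (eichIso Q (e l) (c • e j) (h.qe l) h1) (e i) (f l) (h.qe i) huw
    (by
      rw [eichIso_coe, eichM_mulVec, h.ee, polar_smul_left, h.ee]
      simp)
  have h2 : ((eichIso Q (e l) (c • e j) (h.qe l) h1 : Matrix.GeneralLinearGroup ι F) :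
      Matrix ι ι F) *ᵥ f l - f l = c • e j := by
    rw [eichIso_coe, eichM_mulVec, h.ef, if_pos rfl, polar_smul_left, h.ef,
      if_neg (fun h' => hlj h'.symm), QuadraticMap.map_smul, h.qe]
    simp
  rwa [h2] at key

/-- Short root elements `E_{e_i, d}` with `d` orthogonal to the family lie in `Ω`. -/
theorem inOmega_eich_ed {k : ℕ} {e f : Fin k → ι → F} (h : IsHypFamily Q e f) (hk : 3 ≤ k)
    (i : Fin k) (d : ι → F) (hde : ∀ i, polar (⇑Q) (e i) d = 0)
    (hdf : ∀ i, polar (⇑Q) (f i) d = 0) :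
    InOmega Q (eichM Q (e i) d) := by
  obtain ⟨j, hji, -⟩ := exists_third hk i i
  obtain ⟨l, hli, hlj⟩ := exists_third hk i j
  have hij : i ≠ j := fun h' => hji h'.symm
  have huw : polar (⇑Q) (e i) (f j) = 0 := by rw [h.ef, if_neg hij]
  have key := inOmega_eich_sub Q (eichIso Q (e j) d (h.qe j) (hde j)) (e i) (f j) (h.qe i) huw
    (by
      rw [eichIso_coe, eichM_mulVec, h.ee, polar_comm (⇑Q) d (e i), hde]
      simp)
  have h2 : ((eichIso Q (e j) d (h.qe j) (hde j) : Matrix.GeneralLinearGroup ι F) :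
      Matrix ι ι F) *ᵥ f j - f j = d - Q d • e j := by
    rw [eichIso_coe, eichM_mulVec, h.ef, if_pos rfl, polar_comm (⇑Q) d (f j), hdf]
    simp
    abel
  rw [h2] at key
  have key2 := inOmega_eich_ee Q h i j l hij hli hlj (Q d)
  have h3 : polar (⇑Q) (e i) (d - Q d • e j) = 0 := by
    rw [polar_sub_right, hde, polar_smul_right, h.ee]
    simp
  have h4 : polar (⇑Q) (e i) (Q d • e j) = 0 := by
    rw [polar_smul_right, h.ee, smul_zero]
  have := key.mul Q key2
  rw [eichM_mul Q (e i) _ _ (h.qe i) h3 h4, sub_add_cancel] at this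
  exact this

section center

variable {k : ℕ} {e f : Fin k → ι → F} (Z : Matrix ι ι F)

theorem Z_e_aux (h : IsHypFamily Q e f) (hZ : ∀ M, InOmega Q M → Z * M = M * Z)
    (i j l : Fin k) (hij : i ≠ j) (hli : l ≠ i) (hlj : l ≠ j) :
    Z *ᵥ e i = polar (⇑Q) (e j) (Z *ᵥ f j) • e i - polar (⇑Q) (e i) (Z *ᵥ f j) • e j := by
  have hM := inOmega_eich_ee Q h i j l hij hli hlj 1
  rw [one_smul] at hM
  have hc := hZ _ hM
  have h1 : Z *ᵥ (eichM Q (e i) (e j) *ᵥ f j) = eichM Q (e i) (e j) *ᵥ (Z *ᵥ f j) := by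
    rw [Matrix.mulVec_mulVec, Matrix.mulVec_mulVec, hc]
  rw [eichM_mulVec, eichM_mulVec, h.ef, if_neg hij, h.ef, if_pos rfl, h.qe] at h1
  simp only [zero_smul, add_zero, one_smul, zero_mul, sub_zero, Matrix.mulVec_sub] at h1
  funext a
  have h2 := congrFun h1 a
  simp only [Pi.sub_apply, Pi.add_apply, Pi.smul_apply, smul_eq_mul] at h2 ⊢
  linear_combination -h2

theorem Z_e_eigen (h : IsHypFamily Q e f) (hk : 3 ≤ k)
    (hZ : ∀ M, InOmega Q M → Z * M = M * Z) (i : Fin k) : ∃ α : F, Z *ᵥ e i = α • e i := by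
  obtain ⟨j, hji, -⟩ := exists_third hk i i
  obtain ⟨j', hj'i, hj'j⟩ := exists_third hk i j
  have hij : i ≠ j := fun h' => hji h'.symm
  have hij' : i ≠ j' := fun h' => hj'i h'.symm
  have e1 := Z_e_aux Q Z h hZ i j j' hij hj'i hj'j
  have e2 := Z_e_aux Q Z h hZ i j' j hij' hji (fun h' => hj'j h'.symm)
  have p1 : polar (⇑Q) (Z *ᵥ e i) (f j) = - polar (⇑Q) (e i) (Z *ᵥ f j) := by
    rw [e1, polar_sub_left, polar_smul_left, polar_smul_left, h.ef, if_neg hij, h.ef, if_pos rfl]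
    simp
  have p2 : polar (⇑Q) (Z *ᵥ e i) (f j) = 0 := by
    rw [e2, polar_sub_left, polar_smul_left, polar_smul_left, h.ef, if_neg hij, h.ef,
      if_neg hj'j]
    simp
  refine ⟨polar (⇑Q) (e j) (Z *ᵥ f j), ?_⟩
  have hb : polar (⇑Q) (e i) (Z *ᵥ f j) = 0 := by
    rw [p2] at p1
    exact neg_eq_zero.1 p1.symm
  rw [hb, zero_smul, sub_zero] at e1
  exact e1

theorem Z_relation (h : IsHypFamily Q e f) (hZ : ∀ M, InOmega Q M → Z * M = M * Z)
    (i j l : Fin k) (hij : i ≠ j) (hli : l ≠ i) (hlj : l ≠ j) (lam mu : F)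
    (hlam : Z *ᵥ e j = lam • e j) (hmu : Z *ᵥ f i = mu • f i) : lam = mu := by
  have hM := inOmega_eich_ee Q h i j l hij hli hlj 1
  rw [one_smul] at hM
  have hc := hZ _ hM
  have h1 : Z *ᵥ (eichM Q (e i) (e j) *ᵥ f i) = eichM Q (e i) (e j) *ᵥ (Z *ᵥ f i) := by
    rw [Matrix.mulVec_mulVec, Matrix.mulVec_mulVec, hc]
  rw [hmu, eichM_mulVec, eichM_mulVec, h.ef, if_pos rfl, h.ef, if_neg (fun h' => hij h'.symm),
    h.qe, polar_smul_right, polar_smul_right, h.ef, if_pos rfl, h.ef,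
    if_neg (fun h' => hij h'.symm)] at h1
  simp only [zero_smul, one_smul, zero_mul, sub_zero, Matrix.mulVec_add, hlam, hmu, smul_eq_mul,
    mul_one, mul_zero] at h1
  have h2 : polar (⇑Q) (mu • f i + lam • e j) (f j) = polar (⇑Q) (mu • f i + mu • e j) (f j) := by
    rw [h1]
  rw [polar_add_left, polar_add_left, polar_smul_left, polar_smul_left, polar_smul_left, h.ff,
    h.ef, if_pos rfl] at h2
  simpa using h2

theorem Z_d (h : IsHypFamily Q e f) (hk : 3 ≤ k) (hZ : ∀ M, InOmega Q M → Z * M = M * Z)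
    (i : Fin k) (d : ι → F) (hde : ∀ i, polar (⇑Q) (e i) d = 0)
    (hdf : ∀ i, polar (⇑Q) (f i) d = 0) (lam : F) (he : Z *ᵥ e i = lam • e i)
    (hf : Z *ᵥ f i = lam • f i) : Z *ᵥ d = lam • d := by
  have hM := inOmega_eich_ed Q h hk i d hde hdf
  have hc := hZ _ hM
  have h1 : Z *ᵥ (eichM Q (e i) d *ᵥ f i) = eichM Q (e i) d *ᵥ (Z *ᵥ f i) := by
    rw [Matrix.mulVec_mulVec, Matrix.mulVec_mulVec, hc]
  rw [hf, eichM_mulVec, eichM_mulVec, h.ef, if_pos rfl, polar_comm (⇑Q) d (f i), hdf,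
    polar_smul_right, polar_smul_right, h.ef, if_pos rfl, polar_comm (⇑Q) d (f i), hdf] at h1
  simp only [zero_smul, one_smul, sub_zero, Matrix.mulVec_add, Matrix.mulVec_sub,
    Matrix.mulVec_smul, he, hf, smul_eq_mul, mul_one, mul_zero] at h1
  funext a
  have h2 := congrFun h1 a
  simp only [Pi.sub_apply, Pi.add_apply, Pi.smul_apply, smul_eq_mul] at h2 ⊢
  linear_combination h2

/-- An isometry (or any matrix) commuting with all elements of `Ω(Q)` is a scalar, when `Q` has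
a hyperbolic family of length at least 3 which together with vectors orthogonal to it contains
the standard basis. -/
theorem scalar_of_commute (h : IsHypFamily Q e f) (hk : 3 ≤ k)
    (hspan : ∀ a : ι, (∃ i, (Pi.single a 1 : ι → F) = e i) ∨
      (∃ i, (Pi.single a 1 : ι → F) = f i) ∨
      ((∀ i, polar (⇑Q) (e i) (Pi.single a 1) = 0) ∧
        (∀ i, polar (⇑Q) (f i) (Pi.single a 1) = 0)))
    (hZ : ∀ M, InOmega Q M → Z * M = M * Z) : ∃ lam : F, Z = lam • (1 : Matrix ι ι F) := by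
  have hs := IsHypFamily_swap Q h
  choose lamf hlam using Z_e_eigen Q Z h hk hZ
  choose muf hmu using Z_e_eigen Q Z hs hk hZ
  have rel : ∀ i j, i ≠ j → lamf j = muf i := by
    intro i j hij
    obtain ⟨l, hli, hlj⟩ := exists_third hk i j
    exact Z_relation Q Z h hZ i j l hij hli hlj _ _ (hlam j) (hmu i)
  let i0 : Fin k := ⟨0, by omega⟩
  have hl : ∀ i, lamf i = lamf i0 := by
    intro i
    obtain ⟨l, hli, hl0⟩ := exists_third hk i i0
    rw [rel l i hli, rel l i0 hl0]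
  have hm : ∀ i, muf i = lamf i0 := by
    intro i
    obtain ⟨j, hji, -⟩ := exists_third hk i i
    rw [← rel i j (fun h' => hji h'.symm), hl]
  refine ⟨lamf i0, ?_⟩
  have hcol : ∀ a : ι, Z *ᵥ (Pi.single a 1 : ι → F) = lamf i0 • (Pi.single a 1 : ι → F) := by
    intro a
    rcases hspan a with ⟨i, hi⟩ | ⟨i, hi⟩ | ⟨hde, hdf⟩
    · rw [hi, hlam, hl]
    · rw [hi, hmu, hm]
    · exact Z_d Q Z h hk hZ i0 _ hde hdf _ (by rw [hlam]) (by rw [hmu, hm])
  ext b a
  have := congrFun (hcol a) b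
  rw [Matrix.mulVec_single_one] at this
  simp only [Matrix.col_apply, Pi.smul_apply, smul_eq_mul] at this
  rw [this, Matrix.smul_apply, Matrix.one_apply, Pi.single_apply]
  simp

end center

section card

variable {k : ℕ} {e f : Fin k → ι → F}

/-- The matrix of an element of `Ω`. -/
def omat (z : ↥(Cfsg.Omega F ⇑Q)) : Matrix ι ι F :=
  (((z : ↥(Cfsg.isometryGroup F ⇑Q)) : Matrix.GeneralLinearGroup ι F) : Matrix ι ι F)

theorem omat_injective : Function.Injective (omat Q) := by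
  intro a b hab
  apply Subtype.ext
  apply Subtype.ext
  apply Units.ext
  exact hab

theorem omat_mul (a b : ↥(Cfsg.Omega F ⇑Q)) : omat Q (a * b) = omat Q a * omat Q b := rfl

theorem omat_one : omat Q 1 = 1 := rfl

/-- Central elements of `Ω` are `± 1`. -/
theorem center_omega_pm (h : IsHypFamily Q e f) (hk : 3 ≤ k)
    (hspan : ∀ a : ι, (∃ i, (Pi.single a 1 : ι → F) = e i) ∨
      (∃ i, (Pi.single a 1 : ι → F) = f i) ∨
      ((∀ i, polar (⇑Q) (e i) (Pi.single a 1) = 0) ∧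
        (∀ i, polar (⇑Q) (f i) (Pi.single a 1) = 0)))
    (z : ↥(Cfsg.Omega F ⇑Q)) (hz : z ∈ Subgroup.center (Cfsg.Omega F ⇑Q)) :
    omat Q z = 1 ∨ omat Q z = -1 := by
  have hZ : ∀ M, InOmega Q M → omat Q z * M = M * omat Q z := by
    rintro M ⟨g, hg, rfl⟩
    have := Subgroup.mem_center_iff.1 hz ⟨g, hg⟩
    have h2 := congrArg (omat Q) this
    rw [omat_mul, omat_mul] at h2
    exact h2.symm
  obtain ⟨lam, hlam⟩ := scalar_of_commute Q (omat Q z) h hk hspan hZ
  let i0 : Fin k := ⟨0, by omega⟩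
  have hv : Q (e i0 + f i0) = 1 := by
    rw [QuadraticMap.map_add Q, h.qe, h.qf, h.ef, if_pos rfl]; simp
  have hiso := isom_of_mem Q (z : ↥(Cfsg.isometryGroup F ⇑Q)) (e i0 + f i0)
  have hz' : (((z : ↥(Cfsg.isometryGroup F ⇑Q)) : Matrix.GeneralLinearGroup ι F) :
      Matrix ι ι F) = lam • (1 : Matrix ι ι F) := hlam
  rw [hz', Matrix.smul_mulVec, Matrix.one_mulVec, QuadraticMap.map_smul, hv] at hiso
  have h1 : (lam - 1) * (lam + 1) = 0 := by
    simp only [smul_eq_mul, mul_one] at hiso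
    linear_combination hiso
  rcases mul_eq_zero.1 h1 with h' | h'
  · left
    rw [hlam, sub_eq_zero.1 h', one_smul]
  · right
    rw [hlam, eq_neg_of_add_eq_zero_left h', neg_smul, one_smul]

theorem card_center_omega_char2 (h2 : (2 : F) = 0) (h : IsHypFamily Q e f) (hk : 3 ≤ k)
    (hspan : ∀ a : ι, (∃ i, (Pi.single a 1 : ι → F) = e i) ∨
      (∃ i, (Pi.single a 1 : ι → F) = f i) ∨
      ((∀ i, polar (⇑Q) (e i) (Pi.single a 1) = 0) ∧
        (∀ i, polar (⇑Q) (f i) (Pi.single a 1) = 0))) :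
    Nat.card (Subgroup.center (Cfsg.Omega F ⇑Q)) = 1 := by
  have hneg : (-1 : Matrix ι ι F) = 1 := by
    have : (-1 : F) = 1 := by linear_combination -h2
    ext a b
    simp [Matrix.neg_apply, Matrix.one_apply]
    split_ifs <;> simp [this]
  rw [Nat.card_eq_one_iff_unique]
  refine ⟨⟨?_⟩, ⟨1⟩⟩
  intro a b
  have ha := center_omega_pm Q h hk hspan a.1 a.2
  have hb := center_omega_pm Q h hk hspan b.1 b.2
  rw [hneg, or_self] at ha hb
  apply Subtype.ext
  apply omat_injective Q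
  rw [ha, hb]

theorem card_center_omega (h2 : (2 : F) ≠ 0) (h : IsHypFamily Q e f) (hk : 3 ≤ k)
    (hspan : ∀ a : ι, (∃ i, (Pi.single a 1 : ι → F) = e i) ∨
      (∃ i, (Pi.single a 1 : ι → F) = f i) ∨
      ((∀ i, polar (⇑Q) (e i) (Pi.single a 1) = 0) ∧
        (∀ i, polar (⇑Q) (f i) (Pi.single a 1) = 0))) :
    ((∃ g : ↥(Cfsg.isometryGroup F ⇑Q), g ∈ Cfsg.Omega F ⇑Q ∧
        ((g : Matrix.GeneralLinearGroup ι F) : Matrix ι ι F) = -1) →
      Nat.card (Subgroup.center (Cfsg.Omega F ⇑Q)) = 2) ∧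
    ((¬ ∃ g : ↥(Cfsg.isometryGroup F ⇑Q), g ∈ Cfsg.Omega F ⇑Q ∧
        ((g : Matrix.GeneralLinearGroup ι F) : Matrix ι ι F) = -1) →
      Nat.card (Subgroup.center (Cfsg.Omega F ⇑Q)) = 1) := by
  have hne : (-1 : Matrix ι ι F) ≠ 1 := by
    intro hcon
    let i0 : Fin k := ⟨0, by omega⟩
    have hv : e i0 ≠ 0 := by
      intro h0
      have := h.ef i0 i0
      rw [h0, polar_zero_left, if_pos rfl] at this
      exact zero_ne_one this
    have h3 : (-1 : Matrix ι ι F) *ᵥ e i0 = (1 : Matrix ι ι F) *ᵥ e i0 := by rw [hcon]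
    rw [Matrix.neg_mulVec, Matrix.one_mulVec] at h3
    apply hv
    have h4 : (2 : F) • e i0 = 0 := by
      rw [two_smul]
      nth_rewrite 1 [← h3]
      exact neg_add_cancel _
    rcases smul_eq_zero.1 h4 with h5 | h5
    · exact absurd h5 h2
    · exact h5
  constructor
  · rintro ⟨g, hg, hgm⟩
    have hzc : (⟨g, hg⟩ : ↥(Cfsg.Omega F ⇑Q)) ∈ Subgroup.center (Cfsg.Omega F ⇑Q) := by
      rw [Subgroup.mem_center_iff]
      intro x
      apply omat_injective Q
      rw [omat_mul, omat_mul]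
      have : omat Q ⟨g, hg⟩ = -1 := hgm
      rw [this]
      simp
    rw [Nat.card_eq_two_iff]
    refine ⟨1, ⟨⟨g, hg⟩, hzc⟩, ?_, ?_⟩
    · intro hcon
      have h3 := congrArg (fun z : ↥(Subgroup.center (Cfsg.Omega F ⇑Q)) => omat Q z.1) hcon
      simp only at h3
      have : omat Q ⟨g, hg⟩ = -1 := hgm
      rw [this] at h3
      exact hne h3.symm
    · ext z
      simp only [Set.mem_insert_iff, Set.mem_singleton_iff, Set.mem_univ, iff_true]
      rcases center_omega_pm Q h hk hspan z.1 z.2 with h' | h'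
      · left
        apply Subtype.ext
        apply omat_injective Q
        rw [h']; rfl
      · right
        apply Subtype.ext
        apply omat_injective Q
        rw [h']
        exact hgm.symm
  · intro hno
    rw [Nat.card_eq_one_iff_unique]
    refine ⟨⟨?_⟩, ⟨1⟩⟩
    have hall : ∀ a : ↥(Subgroup.center (Cfsg.Omega F ⇑Q)), omat Q a.1 = 1 := by
      intro a
      rcases center_omega_pm Q h hk hspan a.1 a.2 with h' | h'
      · exact h'
      · exfalso
        exact hno ⟨a.1.1, a.1.2, h'⟩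
    intro a b
    apply Subtype.ext
    apply omat_injective Q
    rw [hall a, hall b]

end card

end Cfsg.Agent.Lead.OmegaCenter
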