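import Mathlib
import Cfsg.Prelude.Def_Classical
import Cfsg.Agent.Lib.Helper14.IsomTransfer

/-!
# Reindexing isometry groups

For `e : ι ≃ κ` and `Q : (ι → F) → F`, the isometry groups of `Q` and of `v ↦ Q (v ∘ e)` are
isomorphic; the commutator subgroups (`Omega`) correspond, so their indices and cardinalities agree.
-/

set_option autoImplicit false
set_option linter.unusedSectionVars false

namespace Cfsg.Agent.Lead.IsoReindex

open Matrix

variable {F : Type*} [Field F] {ι κ : Type} [Fintype ι] [DecidableEq ι] [Fintype κ] [DecidableEq κ]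

/-- Reindexing of general linear groups. -/
def glReindex (e : ι ≃ κ) : Matrix.GeneralLinearGroup ι F ≃* Matrix.GeneralLinearGroup κ F :=
  Units.mapEquiv (Matrix.reindexRingEquiv F e).toMulEquiv

theorem glReindex_coe (e : ι ≃ κ) (g : Matrix.GeneralLinearGroup ι F) :
    ((glReindex e g : Matrix.GeneralLinearGroup κ F) : Matrix κ κ F) =
      (g : Matrix ι ι F).submatrix e.symm e.symm := rfl

/-- The reindexed form. -/
def reQ (e : ι ≃ κ) (Q : (ι → F) → F) : (κ → F) → F := fun v => Q (v ∘ e)

theorem submatrix_mulVec_comp (e : ι ≃ κ) (M : Matrix ι ι F) (v : κ → F) :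
    (M.submatrix e.symm e.symm *ᵥ v) ∘ e = M *ᵥ (v ∘ e) := by
  rw [Matrix.submatrix_mulVec_equiv]
  funext i
  simp

theorem glReindex_mem_iff (e : ι ≃ κ) (Q : (ι → F) → F) (g : Matrix.GeneralLinearGroup ι F) :
    glReindex e g ∈ Cfsg.isometryGroup F (reQ e Q) ↔ g ∈ Cfsg.isometryGroup F Q := by
  rw [Cfsg.Agent.Helper14.mem_isometryGroup_iff, Cfsg.Agent.Helper14.mem_isometryGroup_iff]
  constructor
  · intro h u
    have := h (u ∘ e.symm)
    unfold reQ at this
    rw [glReindex_coe, submatrix_mulVec_comp] at this
    have hu : (u ∘ e.symm) ∘ e = u := by funext i; simp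
    rwa [hu] at this
  · intro h v
    unfold reQ
    rw [glReindex_coe, submatrix_mulVec_comp, h]

/-- Reindexing of isometry groups. -/
noncomputable def isoReindex (e : ι ≃ κ) (Q : (ι → F) → F) :
    ↥(Cfsg.isometryGroup F Q) ≃* ↥(Cfsg.isometryGroup F (reQ e Q)) :=
  ((glReindex e).subgroupMap (Cfsg.isometryGroup F Q)).trans
    (MulEquiv.subgroupCongr (by
      ext g'
      rw [Subgroup.mem_map]
      constructor
      · rintro ⟨g, hg, rfl⟩
        exact (glReindex_mem_iff e Q g).mpr hg
      · intro hg'
        refine ⟨(glReindex e).symm g', ?_, by simp⟩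
        rw [← glReindex_mem_iff e Q]
        simpa using hg'))

/-- The index of the commutator subgroup is invariant under group isomorphism. -/
theorem index_commutator_congr {G H : Type*} [Group G] [Group H] (φ : G ≃* H) :
    (commutator G).index = (commutator H).index := by
  have h : (commutator G).map φ.toMonoidHom = commutator H := by
    rw [commutator_def, commutator_def, Subgroup.map_commutator]
    have : (⊤ : Subgroup G).map φ.toMonoidHom = ⊤ := by
      rw [← MonoidHom.range_eq_map]
      exact MonoidHom.range_eq_top.2 φ.surjective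
    rw [this]
  rw [← h]
  exact (Subgroup.index_map_equiv (commutator G) φ).symm

theorem index_omega_reindex (e : ι ≃ κ) (Q : (ι → F) → F) :
    (Cfsg.Omega F (reQ e Q)).index = (Cfsg.Omega F Q).index :=
  (index_commutator_congr (isoReindex e Q)).symm

open QuadraticMap in
/-- The reindexed quadratic form, as a `QuadraticForm`. -/
noncomputable def reQF (e : ι ≃ κ) (Q : QuadraticForm F (ι → F)) : QuadraticForm F (κ → F) :=
  Q.comp (LinearMap.funLeft F F e)

theorem coe_reQF (e : ι ≃ κ) (Q : QuadraticForm F (ι → F)) : ⇑(reQF e Q) = reQ e ⇑Q := rfl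

open QuadraticMap in
theorem polar_reQF (e : ι ≃ κ) (Q : QuadraticForm F (ι → F)) (x y : κ → F) :
    polar ⇑(reQF e Q) x y = polar ⇑Q (x ∘ e) (y ∘ e) := rfl

open QuadraticMap in
theorem reQF_nondegenerate (e : ι ≃ κ) (Q : QuadraticForm F (ι → F))
    (hQ : (polarBilin Q).Nondegenerate) : (polarBilin (reQF e Q)).Nondegenerate := by
  constructor
  · intro x hx
    have h1 : x ∘ e = 0 := by
      apply hQ.1
      intro y
      have := hx (y ∘ e.symm)
      rw [polarBilin_apply_apply, polar_reQF] at this
      rw [polarBilin_apply_apply]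
      have hy : (y ∘ e.symm) ∘ e = y := by funext i; simp
      rwa [hy] at this
    funext i
    have := congrFun h1 (e.symm i)
    simpa using this
  · intro x hx
    have h1 : x ∘ e = 0 := by
      apply hQ.2
      intro y
      have := hx (y ∘ e.symm)
      rw [polarBilin_apply_apply, polar_reQF] at this
      rw [polarBilin_apply_apply]
      have hy : (y ∘ e.symm) ∘ e = y := by funext i; simp
      rwa [hy] at this
    funext i
    have := congrFun h1 (e.symm i)
    simpa using this

end Cfsg.Agent.Lead.IsoReindex
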