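import Mathlib
import Cfsg.Agent.Lib.Lead.OmegaCenter
import Cfsg.Agent.Lib.Lead.IsoReindex
import Cfsg.Agent.S0788
import Cfsg.Agent.S0789
import Cfsg.Agent.S0790
import Cfsg.Agent.S0791
import Cfsg.Agent.S0286
import Cfsg.Agent.S0287
import Cfsg.Agent.S0288

/-!
# Orders of `PΩ_{2m+1}(q)`, `PΩ^±_{2m}(q)`

`|PΩ| · |Z(Ω)| · |O : Ω| = |O|`, with `|O : Ω|` from S0788/S0789 (transferred to general index
types), `Z(Ω) = Ω ∩ {±1}` from `OmegaCenter`, and `-1 ∈ Ω` decided by S0790/S0791.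
-/

set_option autoImplicit false
set_option linter.unusedSectionVars false
set_option linter.unusedSimpArgs false

namespace Cfsg.Agent.Lead.POmegaCard

open Matrix QuadraticMap Cfsg.Agent.Helper43 Cfsg.Agent.Lead.OmegaCenter
  Cfsg.Agent.Lead.IsoReindex

variable {F : Type*} [Field F] [Fintype F] {ι : Type} [Fintype ι] [DecidableEq ι]

theorem index_omega_odd (h2 : (2 : F) ≠ 0) (Q : QuadraticForm F (ι → F))
    (hQ : (polarBilin Q).Nondegenerate) (hn : 2 ≤ Fintype.card ι) :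
    (Cfsg.Omega F ⇑Q).index = 4 := by
  have h := Cfsg.Agent.S0788.result h2 hn (reQF (Fintype.equivFin ι) Q)
    (reQF_nondegenerate _ Q hQ)
  rw [coe_reQF, index_omega_reindex] at h
  exact h

theorem index_omega_even (h2 : (2 : F) = 0) (Q : QuadraticForm F (ι → F))
    (hQ : (polarBilin Q).Nondegenerate) (hn : 2 ≤ Fintype.card ι)
    (hex : Fintype.card F ≠ 2 ∨ Fintype.card ι ≠ 4) :
    (Cfsg.Omega F ⇑Q).index = 2 := by
  haveI : CharP F 2 := (CharP.charP_iff_prime_eq_zero Nat.prime_two).2 (by exact_mod_cast h2)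
  have h := Cfsg.Agent.S0789.result hn (reQF (Fintype.equivFin ι) Q)
    (reQF_nondegenerate _ Q hQ) hex
  rw [coe_reQF, index_omega_reindex] at h
  exact h

theorem card_POmega_mul (Q : (ι → F) → F) :
    Nat.card (Cfsg.POmega F Q) * Nat.card (Subgroup.center (Cfsg.Omega F Q)) *
      (Cfsg.Omega F Q).index = Nat.card (Cfsg.isometryGroup F Q) := by
  have h1 := Subgroup.card_eq_card_quotient_mul_card_subgroup (Subgroup.center (Cfsg.Omega F Q))
  have h2 := Subgroup.card_mul_index (Cfsg.Omega F Q)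
  rw [← h2, h1]

theorem odd_card_of_two_ne_zero (h2 : (2 : F) ≠ 0) : Fintype.card F % 2 = 1 := by
  apply FiniteField.odd_card_of_char_ne_two
  intro h
  have := CharP.cast_eq_zero F (ringChar F)
  rw [h] at this
  exact h2 (by exact_mod_cast this)

theorem even_card_of_two_eq_zero (h2 : (2 : F) = 0) : Fintype.card F % 2 = 0 := by
  apply FiniteField.even_card_of_char_two
  exact CharP.ringChar_of_prime_eq_zero Nat.prime_two (by exact_mod_cast h2)

theorem gcd_four_of_mod (x r : ℕ) (hx : x % 4 = r) : Nat.gcd 4 x = Nat.gcd r 4 := by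
  rw [Nat.gcd_rec, hx]

section plus

theorem hspan_plus (m : ℕ) : ∀ a : Fin m ⊕ Fin m,
    (∃ i, (Pi.single a 1 : Fin m ⊕ Fin m → F) =
      (fun i => (Pi.single (Sum.inl i) 1 : Fin m ⊕ Fin m → F)) i) ∨
    (∃ i, (Pi.single a 1 : Fin m ⊕ Fin m → F) =
      (fun i => (Pi.single (Sum.inr i) 1 : Fin m ⊕ Fin m → F)) i) ∨
    ((∀ i, polar (⇑(stdPlus F m))
        ((fun i => (Pi.single (Sum.inl i) 1 : Fin m ⊕ Fin m → F)) i) (Pi.single a 1) = 0) ∧
      (∀ i, polar (⇑(stdPlus F m))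
        ((fun i => (Pi.single (Sum.inr i) 1 : Fin m ⊕ Fin m → F)) i) (Pi.single a 1) = 0)) := by
  intro a
  rcases a with i | i
  · exact Or.inl ⟨i, rfl⟩
  · exact Or.inr (Or.inl ⟨i, rfl⟩)

theorem card_POmega_plus {q : ℕ} (hF : Fintype.card F = q) (m : ℕ) (hm : 4 ≤ m) :
    Nat.gcd 4 (q ^ m - 1) * Nat.card (Cfsg.POmega F (Cfsg.quadFormPlus m F)) =
      q ^ (m * (m - 1)) * (q ^ m - 1) * ∏ i ∈ Finset.range (m - 1), (q ^ (2 * (i + 1)) - 1) := by
  have hO := Cfsg.Agent.S0287.result hF m (by omega)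
  have hmul := card_POmega_mul (F := F) (Cfsg.quadFormPlus m F)
  rw [hO] at hmul
  set A := q ^ (m * (m - 1)) * (q ^ m - 1) * ∏ i ∈ Finset.range (m - 1), (q ^ (2 * (i + 1)) - 1)
    with hA
  have hO2 : 2 * q ^ (m * (m - 1)) * (q ^ m - 1) *
      ∏ i ∈ Finset.range (m - 1), (q ^ (2 * (i + 1)) - 1) = 2 * A := by rw [hA]; ring
  rw [hO2] at hmul
  have hcard : Fintype.card (Fin m ⊕ Fin m) = m + m := by simp
  have hqpos : 0 < q ^ m := by
    apply Nat.pow_pos
    rw [← hF]; exact Fintype.card_pos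
  by_cases h2 : (2 : F) = 0
  · -- characteristic 2
    have hidx := index_omega_even h2 (stdPlus F m) (stdPlus_nondegenerate F m)
      (by rw [hcard]; omega) (Or.inr (by rw [hcard]; omega))
    have hcen := card_center_omega_char2 (stdPlus F m) h2 (stdPlus_isHypFamily F m) (by omega)
      (hspan_plus m)
    rw [coe_stdPlus] at hidx hcen
    rw [hidx, hcen] at hmul
    have hqe : q % 2 = 0 := by rw [← hF]; exact even_card_of_two_eq_zero h2
    have hqm : Even (q ^ m) := by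
      rw [Nat.even_pow]
      exact ⟨Nat.even_iff.2 hqe, by omega⟩
    have hx : (q ^ m - 1) % 2 = 1 := by
      have := Nat.even_iff.1 hqm
      omega
    have hg : Nat.gcd 4 (q ^ m - 1) = 1 := by
      have : Nat.Coprime (2 ^ 2) (q ^ m - 1) :=
        Nat.Coprime.pow_left 2 (Nat.coprime_two_left.2 (Nat.odd_iff.2 hx))
      exact this
    rw [hg]
    omega
  · -- odd characteristic
    have hqo : q % 2 = 1 := by rw [← hF]; exact odd_card_of_two_ne_zero h2
    have hodd : Odd q := Nat.odd_iff.2 hqo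
    have hidx := index_omega_odd h2 (stdPlus F m) (stdPlus_nondegenerate F m)
      (by rw [hcard]; omega)
    have hcen := card_center_omega (stdPlus F m) h2 (stdPlus_isHypFamily F m) (by omega)
      (hspan_plus m)
    have hneg := Cfsg.Agent.S0790.result hF hodd m (by omega)
    rw [coe_stdPlus] at hidx hcen
    rw [hidx] at hmul
    have hqm : Odd (q ^ m) := hodd.pow
    have hqm2 : (q ^ m) % 2 = 1 := Nat.odd_iff.1 hqm
    by_cases h4 : q ^ m % 4 = 1
    · have hc := hcen.1 (hneg.2 h4)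
      rw [hc] at hmul
      have hg : Nat.gcd 4 (q ^ m - 1) = 4 := by
        rw [gcd_four_of_mod (q ^ m - 1) 0 (by omega)]
        rfl
      rw [hg]
      omega
    · have hc := hcen.2 (fun hcon => h4 (hneg.1 hcon))
      rw [hc] at hmul
      have hg : Nat.gcd 4 (q ^ m - 1) = 2 := by
        rw [gcd_four_of_mod (q ^ m - 1) 2 (by omega)]
        rfl
      rw [hg]
      omega

end plus

section minus

theorem hspan_minus (k : ℕ) (a b : F) : ∀ x : (Fin k ⊕ Fin k) ⊕ Fin 2,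
    (∃ i, (Pi.single x 1 : (Fin k ⊕ Fin k) ⊕ Fin 2 → F) =
      (fun i => (Pi.single (Sum.inl (Sum.inl i)) 1 : (Fin k ⊕ Fin k) ⊕ Fin 2 → F)) i) ∨
    (∃ i, (Pi.single x 1 : (Fin k ⊕ Fin k) ⊕ Fin 2 → F) =
      (fun i => (Pi.single (Sum.inl (Sum.inr i)) 1 : (Fin k ⊕ Fin k) ⊕ Fin 2 → F)) i) ∨
    ((∀ i, polar (⇑(stdMinus F k a b))
        ((fun i => (Pi.single (Sum.inl (Sum.inl i)) 1 : (Fin k ⊕ Fin k) ⊕ Fin 2 → F)) i)
        (Pi.single x 1) = 0) ∧
      (∀ i, polar (⇑(stdMinus F k a b))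
        ((fun i => (Pi.single (Sum.inl (Sum.inr i)) 1 : (Fin k ⊕ Fin k) ⊕ Fin 2 → F)) i)
        (Pi.single x 1) = 0)) := by
  intro x
  rcases x with (i | i) | t
  · exact Or.inl ⟨i, rfl⟩
  · exact Or.inr (Or.inl ⟨i, rfl⟩)
  · exact Or.inr (Or.inr ⟨fun i => stdMinus_polar_cross F k a b (Sum.inl i) t,
      fun i => stdMinus_polar_cross F k a b (Sum.inr i) t⟩)

theorem card_POmega_minus {q : ℕ} (hF : Fintype.card F = q) (m : ℕ) (hm : 4 ≤ m) (a b : F)
    (hab : ∀ z₁ z₂ : F, z₁ ^ 2 + a * z₁ * z₂ + b * z₂ ^ 2 = 0 → z₁ = 0 ∧ z₂ = 0) :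
    Nat.gcd 4 (q ^ m + 1) * Nat.card (Cfsg.POmega F (Cfsg.quadFormMinus (m - 1) F a b)) =
      q ^ (m * (m - 1)) * (q ^ m + 1) * ∏ i ∈ Finset.range (m - 1), (q ^ (2 * (i + 1)) - 1) := by
  have hO := Cfsg.Agent.S0288.result hF m (by omega) a b hab
  have hmul := card_POmega_mul (F := F) (Cfsg.quadFormMinus (m - 1) F a b)
  rw [hO] at hmul
  set A := q ^ (m * (m - 1)) * (q ^ m + 1) * ∏ i ∈ Finset.range (m - 1), (q ^ (2 * (i + 1)) - 1)
    with hA
  have hO2 : 2 * q ^ (m * (m - 1)) * (q ^ m + 1) *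
      ∏ i ∈ Finset.range (m - 1), (q ^ (2 * (i + 1)) - 1) = 2 * A := by rw [hA]; ring
  rw [hO2] at hmul
  have hcard : Fintype.card ((Fin (m - 1) ⊕ Fin (m - 1)) ⊕ Fin 2) = (m - 1) + (m - 1) + 2 := by
    simp
  have hnd := stdMinus_nondegenerate (F := F) (m - 1) (a := a) (b := b) hab
  by_cases h2 : (2 : F) = 0
  · -- characteristic 2
    have hidx := index_omega_even h2 (stdMinus F (m - 1) a b) hnd
      (by rw [hcard]; omega) (Or.inr (by rw [hcard]; omega))
    have hcen := card_center_omega_char2 (stdMinus F (m - 1) a b) h2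
      (stdMinus_isHypFamily F (m - 1) a b) (by omega) (hspan_minus (m - 1) a b)
    rw [coe_stdMinus] at hidx hcen
    rw [hidx, hcen] at hmul
    have hqe : q % 2 = 0 := by rw [← hF]; exact even_card_of_two_eq_zero h2
    have hqm : Even (q ^ m) := by
      rw [Nat.even_pow]
      exact ⟨Nat.even_iff.2 hqe, by omega⟩
    have hx : (q ^ m + 1) % 2 = 1 := by
      have := Nat.even_iff.1 hqm
      omega
    have hg : Nat.gcd 4 (q ^ m + 1) = 1 := by
      have : Nat.Coprime (2 ^ 2) (q ^ m + 1) :=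
        Nat.Coprime.pow_left 2 (Nat.coprime_two_left.2 (Nat.odd_iff.2 hx))
      exact this
    rw [hg]
    omega
  · -- odd characteristic
    have hqo : q % 2 = 1 := by rw [← hF]; exact odd_card_of_two_ne_zero h2
    have hodd : Odd q := Nat.odd_iff.2 hqo
    have hidx := index_omega_odd h2 (stdMinus F (m - 1) a b) hnd (by rw [hcard]; omega)
    have hcen := card_center_omega (stdMinus F (m - 1) a b) h2
      (stdMinus_isHypFamily F (m - 1) a b) (by omega) (hspan_minus (m - 1) a b)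
    have hneg := Cfsg.Agent.S0791.result hF hodd m (by omega) a b hab
    rw [coe_stdMinus] at hidx hcen
    rw [hidx] at hmul
    have hqm : Odd (q ^ m) := hodd.pow
    have hqm2 : (q ^ m) % 2 = 1 := Nat.odd_iff.1 hqm
    by_cases h4 : q ^ m % 4 = 3
    · have hc := hcen.1 (hneg.2 h4)
      rw [hc] at hmul
      have hg : Nat.gcd 4 (q ^ m + 1) = 4 := by
        rw [gcd_four_of_mod (q ^ m + 1) 0 (by omega)]
        rfl
      rw [hg]
      omega
    · have hc := hcen.2 (fun hcon => h4 (hneg.1 hcon))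
      rw [hc] at hmul
      have hg : Nat.gcd 4 (q ^ m + 1) = 2 := by
        rw [gcd_four_of_mod (q ^ m + 1) 2 (by omega)]
        rfl
      rw [hg]
      omega

end minus

section odd

theorem hspan_odd (m : ℕ) : ∀ x : Unit ⊕ (Fin m ⊕ Fin m),
    (∃ i, (Pi.single x 1 : Unit ⊕ (Fin m ⊕ Fin m) → F) =
      (fun i => (Pi.single (Sum.inr (Sum.inl i)) 1 : Unit ⊕ (Fin m ⊕ Fin m) → F)) i) ∨
    (∃ i, (Pi.single x 1 : Unit ⊕ (Fin m ⊕ Fin m) → F) =
      (fun i => (Pi.single (Sum.inr (Sum.inr i)) 1 : Unit ⊕ (Fin m ⊕ Fin m) → F)) i) ∨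
    ((∀ i, polar (⇑(stdOdd F m))
        ((fun i => (Pi.single (Sum.inr (Sum.inl i)) 1 : Unit ⊕ (Fin m ⊕ Fin m) → F)) i)
        (Pi.single x 1) = 0) ∧
      (∀ i, polar (⇑(stdOdd F m))
        ((fun i => (Pi.single (Sum.inr (Sum.inr i)) 1 : Unit ⊕ (Fin m ⊕ Fin m) → F)) i)
        (Pi.single x 1) = 0)) := by
  intro x
  rcases x with u | i | i
  · refine Or.inr (Or.inr ⟨fun i => ?_, fun i => ?_⟩)
    · rw [polar_comm]; exact stdOdd_polar_zero_e F m i
    · rw [polar_comm]; exact stdOdd_polar_zero_f F m i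
  · exact Or.inl ⟨i, rfl⟩
  · exact Or.inr (Or.inl ⟨i, rfl⟩)

/-- `-1` is not in `Ω` in odd dimension and odd characteristic (determinant). -/
theorem neg_one_not_mem_omega_odd (h2 : (2 : F) ≠ 0) (m : ℕ) :
    ¬ ∃ g : ↥(Cfsg.isometryGroup F ⇑(stdOdd F m)), g ∈ Cfsg.Omega F ⇑(stdOdd F m) ∧
      ((g : Matrix.GeneralLinearGroup (Unit ⊕ (Fin m ⊕ Fin m)) F) :
        Matrix (Unit ⊕ (Fin m ⊕ Fin m)) (Unit ⊕ (Fin m ⊕ Fin m)) F) = -1 := by
  rintro ⟨g, hg, hgm⟩
  let dh : ↥(Cfsg.isometryGroup F ⇑(stdOdd F m)) →* Fˣ :=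
    Matrix.GeneralLinearGroup.det.comp (Subgroup.subtype _)
  have hker : g ∈ dh.ker := Abelianization.commutator_subset_ker dh hg
  have h1 : dh g = 1 := MonoidHom.mem_ker.1 hker
  have h3 : ((dh g : Fˣ) : F) = ((g : Matrix.GeneralLinearGroup (Unit ⊕ (Fin m ⊕ Fin m)) F) :
        Matrix (Unit ⊕ (Fin m ⊕ Fin m)) (Unit ⊕ (Fin m ⊕ Fin m)) F).det := rfl
  rw [h1, hgm, Matrix.det_neg, Matrix.det_one] at h3
  have hcard : Fintype.card (Unit ⊕ (Fin m ⊕ Fin m)) = 2 * m + 1 := by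
    simp; ring
  rw [hcard, pow_succ, pow_mul] at h3
  simp at h3
  apply h2
  linear_combination h3

theorem card_POmega_odd {q : ℕ} (hF : Fintype.card F = q) (hodd : Odd q) (m : ℕ) (hm : 3 ≤ m) :
    2 * Nat.card (Cfsg.POmega F (Cfsg.quadFormOdd m F)) =
      q ^ (m ^ 2) * ∏ i ∈ Finset.range m, (q ^ (2 * (i + 1)) - 1) := by
  have hO := Cfsg.Agent.S0286.result hF hodd m
  have hmul := card_POmega_mul (F := F) (Cfsg.quadFormOdd m F)
  rw [hO] at hmul
  have h2 : (2 : F) ≠ 0 := Cfsg.Agent.S0286.two_ne_zero_of_odd (by rw [hF]; exact hodd)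
  have hcard : Fintype.card (Unit ⊕ (Fin m ⊕ Fin m)) = 1 + (m + m) := by simp
  have hidx := index_omega_odd h2 (stdOdd F m) (stdOdd_nondegenerate F m h2)
    (by rw [hcard]; omega)
  have hcen := (card_center_omega (stdOdd F m) h2 (stdOdd_isHypFamily F m) hm (hspan_odd m)).2
    (neg_one_not_mem_omega_odd h2 m)
  rw [coe_stdOdd] at hidx hcen
  rw [hidx, hcen] at hmul
  set A := q ^ (m ^ 2) * ∏ i ∈ Finset.range m, (q ^ (2 * (i + 1)) - 1) with hA
  have hO2 : 2 * q ^ (m ^ 2) * ∏ i ∈ Finset.range m, (q ^ (2 * (i + 1)) - 1) = 2 * A := by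
    rw [hA]; ring
  rw [hO2] at hmul
  omega

end odd

end Cfsg.Agent.Lead.POmegaCard
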