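import Mathlib
import Cfsg.Prelude.Def_Classical

/-!
# In characteristic 2, `O_{2m+1}(q) ≅ Sp_{2m}(q)`
-/

set_option autoImplicit false
set_option linter.unusedSectionVars false
set_option linter.unusedSimpArgs false

namespace Cfsg.Agent.Lead.OddOrth

open Matrix

variable {F : Type*} [Field F] {m : ℕ}

/-- The hyperbolic quadratic form `Σ x_i y_i`. -/
def q0 (w : Fin m ⊕ Fin m → F) : F := ∑ i : Fin m, w (.inl i) * w (.inr i)

/-- The polar form of `q0`. -/
def b0 (w w' : Fin m ⊕ Fin m → F) : F :=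
  ∑ i : Fin m, (w (.inl i) * w' (.inr i) + w' (.inl i) * w (.inr i))

theorem q0_add (w w' : Fin m ⊕ Fin m → F) : q0 (w + w') = q0 w + q0 w' + b0 w w' := by
  simp only [q0, b0, Pi.add_apply, ← Finset.sum_add_distrib]
  apply Finset.sum_congr rfl
  intro i _
  ring

theorem q0_smul (a : F) (w : Fin m ⊕ Fin m → F) : q0 (a • w) = a ^ 2 * q0 w := by
  simp only [q0, Pi.smul_apply, smul_eq_mul, Finset.mul_sum]
  apply Finset.sum_congr rfl
  intro i _
  ring

theorem q0_zero : q0 (0 : Fin m ⊕ Fin m → F) = 0 := by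
  simp [q0]

theorem quadFormOdd_eq (v : Unit ⊕ (Fin m ⊕ Fin m) → F) :
    Cfsg.quadFormOdd m F v = v (.inl ()) ^ 2 + q0 (fun j => v (.inr j)) := rfl

section char2

variable [CharP F 2]

theorem b0_eq_toBilin (w w' : Fin m ⊕ Fin m → F) :
    Matrix.toBilin' (Matrix.J (Fin m) F) w w' = b0 w w' := by
  rw [Matrix.toBilin'_apply']
  simp only [dotProduct, Matrix.mulVec, Fintype.sum_sum_type, Matrix.J, Matrix.fromBlocks_apply₁₁,
    Matrix.fromBlocks_apply₁₂, Matrix.fromBlocks_apply₂₁, Matrix.fromBlocks_apply₂₂,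
    Matrix.zero_apply, zero_mul, Finset.sum_const_zero, zero_add, add_zero, Matrix.neg_apply,
    Matrix.one_apply, neg_mul, ite_mul, one_mul, Finset.sum_neg_distrib, Finset.sum_ite_eq,
    Finset.mem_univ, if_true, mul_neg, CharTwo.neg_eq, b0, Finset.sum_add_distrib]
  congr 1
  apply Finset.sum_congr rfl
  intro i _
  ring


theorem preserves_iff (A : Matrix (Fin m ⊕ Fin m) (Fin m ⊕ Fin m) F) :
    Aᵀ * Matrix.J (Fin m) F * A = Matrix.J (Fin m) F ↔
      ∀ w w', b0 (A *ᵥ w) (A *ᵥ w') = b0 w w' := by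
  have hc := Matrix.toBilin'_comp (Matrix.J (Fin m) F) A A
  constructor
  · intro h w w'
    rw [← b0_eq_toBilin, ← b0_eq_toBilin]
    rw [h] at hc
    have h2 := congrArg (fun B : LinearMap.BilinForm F (Fin m ⊕ Fin m → F) => B w w') hc
    simpa [LinearMap.BilinForm.comp_apply] using h2
  · intro h
    ext i j
    have h1 := h (Pi.single i 1) (Pi.single j 1)
    rw [← b0_eq_toBilin, ← b0_eq_toBilin] at h1
    have h2 := congrArg (fun B : LinearMap.BilinForm F (Fin m ⊕ Fin m → F) =>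
      B (Pi.single i 1) (Pi.single j 1)) hc
    simp only [LinearMap.BilinForm.comp_apply, Matrix.toLin'_apply, Matrix.toBilin'_single] at h2
    rw [← h2, h1, Matrix.toBilin'_single]

theorem mem_sp_iff (A : Matrix (Fin m ⊕ Fin m) (Fin m ⊕ Fin m) F) :
    A ∈ Matrix.symplecticGroup (Fin m) F ↔ ∀ w w', b0 (A *ᵥ w) (A *ᵥ w') = b0 w w' := by
  rw [← SymplecticGroup.transpose_mem_iff, SymplecticGroup.mem_iff, Matrix.transpose_transpose,
    preserves_iff]

end char2

/-- Index type of the odd-dimensional space. -/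
abbrev Idx (m : ℕ) := Unit ⊕ (Fin m ⊕ Fin m)

/-- Lower right block. -/
def blk (M : Matrix (Idx m) (Idx m) F) : Matrix (Fin m ⊕ Fin m) (Fin m ⊕ Fin m) F :=
  fun i j => M (.inr i) (.inr j)

/-- Upper right row. -/
def rw0 (M : Matrix (Idx m) (Idx m) F) : Fin m ⊕ Fin m → F := fun j => M (.inl ()) (.inr j)

/-- The first column is the first basis vector. -/
def Col0 (M : Matrix (Idx m) (Idx m) F) : Prop :=
  M (.inl ()) (.inl ()) = 1 ∧ ∀ i, M (.inr i) (.inl ()) = 0

theorem mulVec_inl (M : Matrix (Idx m) (Idx m) F) (h : Col0 M) (v : Idx m → F) :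
    (M *ᵥ v) (.inl ()) = v (.inl ()) + rw0 M ⬝ᵥ (fun j => v (.inr j)) := by
  simp [Matrix.mulVec, dotProduct, Fintype.sum_sum_type, h.1, rw0]

theorem mulVec_inr (M : Matrix (Idx m) (Idx m) F) (h : Col0 M) (v : Idx m → F) :
    (fun i => (M *ᵥ v) (.inr i)) = blk M *ᵥ (fun j => v (.inr j)) := by
  funext i
  simp [Matrix.mulVec, dotProduct, Fintype.sum_sum_type, h.2, blk]

theorem blk_mul (M N : Matrix (Idx m) (Idx m) F) (h : Col0 M) : blk (M * N) = blk M * blk N := by
  ext i j
  simp [blk, Matrix.mul_apply, Fintype.sum_sum_type, h.2]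

theorem blk_one : blk (1 : Matrix (Idx m) (Idx m) F) = 1 := by
  ext i j
  simp [blk, Matrix.one_apply]

section char2

variable [CharP F 2]

theorem quad_mulVec (M : Matrix (Idx m) (Idx m) F) (h : Col0 M) (v : Idx m → F) :
    Cfsg.quadFormOdd m F (M *ᵥ v) = v (.inl ()) ^ 2 + (rw0 M ⬝ᵥ (fun j => v (.inr j))) ^ 2
      + q0 (blk M *ᵥ (fun j => v (.inr j))) := by
  rw [quadFormOdd_eq, mulVec_inl M h, mulVec_inr M h, CharTwo.add_sq]


theorem mem_iso_iff (g : Matrix.GeneralLinearGroup (Idx m) F) :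
    g ∈ Cfsg.isometryGroup F (Cfsg.quadFormOdd m F) ↔
      ∀ u, Cfsg.quadFormOdd m F ((g : Matrix (Idx m) (Idx m) F) *ᵥ u) = Cfsg.quadFormOdd m F u :=
  ⟨fun h u => h u u, fun h u _ => h u⟩

theorem sq_eq_sq_char2 {x y : F} (h : x ^ 2 = y ^ 2) : x = y := by
  have h1 : (x + y) ^ 2 = 0 := by
    rw [CharTwo.add_sq, h, CharTwo.add_self_eq_zero]
  have h2 : x + y = 0 := by
    exact pow_eq_zero_iff (two_ne_zero) |>.mp h1
  calc x = x + y + y := by rw [add_assoc, CharTwo.add_self_eq_zero, add_zero]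
    _ = y := by rw [h2, zero_add]

theorem b0_single_inr (w : Fin m ⊕ Fin m → F) (i : Fin m) :
    b0 w (Pi.single (Sum.inr i) 1) = w (.inl i) := by
  unfold b0
  rw [Finset.sum_eq_single i]
  · simp
  · intro j _ hj
    simp [hj]
  · simp

theorem b0_single_inl (w : Fin m ⊕ Fin m → F) (i : Fin m) :
    b0 w (Pi.single (Sum.inl i) 1) = w (.inr i) := by
  unfold b0
  rw [Finset.sum_eq_single i]
  · simp
  · intro j _ hj
    simp [hj]
  · simp

theorem col0_of_mem (g : Matrix.GeneralLinearGroup (Idx m) F)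
    (hg : g ∈ Cfsg.isometryGroup F (Cfsg.quadFormOdd m F)) :
    Col0 (g : Matrix (Idx m) (Idx m) F) := by
  classical
  rw [mem_iso_iff] at hg
  set M : Matrix (Idx m) (Idx m) F := (g : Matrix (Idx m) (Idx m) F) with hM
  set e0 : Idx m → F := Pi.single (Sum.inl ()) 1 with he0
  set c : Idx m → F := M *ᵥ e0 with hc
  have hcol : ∀ k, c k = M k (Sum.inl ()) := by
    intro k
    rw [hc, he0, Matrix.mulVec_single_one]
    rfl
  have hQe0 : Cfsg.quadFormOdd m F e0 = 1 := by
    rw [quadFormOdd_eq]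
    have : (fun j => e0 (Sum.inr j)) = (0 : Fin m ⊕ Fin m → F) := by
      funext j
      simp [he0]
    rw [this, q0_zero]
    simp [he0]
  have hQc : c (Sum.inl ()) ^ 2 + q0 (fun j => c (Sum.inr j)) = 1 := by
    rw [← quadFormOdd_eq, hc, hg, hQe0]
  -- the `inr` part of `c` is orthogonal to everything
  have horth : ∀ w' : Fin m ⊕ Fin m → F, b0 (fun j => c (Sum.inr j)) w' = 0 := by
    intro w'
    set t : Idx m → F := Sum.elim (fun _ => 0) w' with ht
    set v' : Idx m → F := ((g⁻¹ : Matrix.GeneralLinearGroup (Idx m) F) : Matrix (Idx m) (Idx m) F) *ᵥ t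
      with hv'
    have hgv : M *ᵥ v' = t := by
      rw [hv', hM, Matrix.mulVec_mulVec, ← Units.val_mul, mul_inv_cancel, Units.val_one,
        Matrix.one_mulVec]
    have h1 := hg (e0 + v')
    rw [Matrix.mulVec_add, hgv, ← hc] at h1
    have h2 := hg v'
    rw [hgv] at h2
    rw [quadFormOdd_eq, quadFormOdd_eq] at h1 h2
    have e1 : (fun j => (c + t) (Sum.inr j)) = (fun j => c (Sum.inr j)) + w' := by
      funext j
      simp [ht]
    have e2 : (fun j => (e0 + v') (Sum.inr j)) = (fun j => v' (Sum.inr j)) := by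
      funext j
      simp [he0]
    have e3 : (fun j => t (Sum.inr j)) = w' := by
      funext j
      simp [ht]
    rw [e1, e2, q0_add] at h1
    rw [e3] at h2
    simp only [Pi.add_apply] at h1
    have e4 : t (Sum.inl ()) = 0 := by simp [ht]
    have e5 : e0 (Sum.inl ()) = 1 := by simp [he0]
    rw [e4, e5, CharTwo.add_sq] at h1
    rw [e4] at h2
    have two : (2 : F) = 0 := CharTwo.two_eq_zero
    linear_combination h1 - hQc + h2 + (v' (Sum.inl ()) + v' (Sum.inl ()) ^ 2 + q0 (fun j => v' (Sum.inr j)) - q0 w') * two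
  have hwc : ∀ j, c (Sum.inr j) = 0 := by
    intro j
    rcases j with i | i
    · have := horth (Pi.single (Sum.inr i) 1)
      rwa [b0_single_inr] at this
    · have := horth (Pi.single (Sum.inl i) 1)
      rwa [b0_single_inl] at this
  refine ⟨?_, fun i => by rw [← hcol]; exact hwc i⟩
  have hz : (fun j => c (Sum.inr j)) = (0 : Fin m ⊕ Fin m → F) := by
    funext j
    exact hwc j
  rw [hz, q0_zero, add_zero] at hQc
  rw [← hcol]
  apply sq_eq_sq_char2
  rw [hQc, one_pow]

/-- The key identity relating the row and the block of an isometry. -/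
theorem key_identity (g : Matrix.GeneralLinearGroup (Idx m) F)
    (hg : g ∈ Cfsg.isometryGroup F (Cfsg.quadFormOdd m F)) (w : Fin m ⊕ Fin m → F) :
    (rw0 (g : Matrix (Idx m) (Idx m) F) ⬝ᵥ w) ^ 2 + q0 (blk (g : Matrix (Idx m) (Idx m) F) *ᵥ w)
      = q0 w := by
  have hcol := col0_of_mem g hg
  rw [mem_iso_iff] at hg
  have h := hg (Sum.elim (fun _ => 0) w)
  rw [quad_mulVec _ hcol, quadFormOdd_eq] at h
  simpa using h

theorem blk_mem_sp (g : Matrix.GeneralLinearGroup (Idx m) F)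
    (hg : g ∈ Cfsg.isometryGroup F (Cfsg.quadFormOdd m F)) :
    blk (g : Matrix (Idx m) (Idx m) F) ∈ Matrix.symplecticGroup (Fin m) F := by
  rw [mem_sp_iff]
  intro w w'
  have h1 := key_identity g hg (w + w')
  have h2 := key_identity g hg w
  have h3 := key_identity g hg w'
  rw [Matrix.mulVec_add, dotProduct_add, CharTwo.add_sq] at h1
  have e1 := q0_add (blk (g : Matrix (Idx m) (Idx m) F) *ᵥ w) (blk (g : Matrix (Idx m) (Idx m) F) *ᵥ w')
  have e2 := q0_add w w'
  linear_combination h1 - h2 - h3 - e1 + e2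

/-- The homomorphism to the symplectic group. -/
def toSp (m : ℕ) (F : Type*) [Field F] [CharP F 2] :
    Cfsg.isometryGroup F (Cfsg.quadFormOdd m F) →* Matrix.symplecticGroup (Fin m) F where
  toFun g := ⟨blk (g.1 : Matrix (Idx m) (Idx m) F), blk_mem_sp g.1 g.2⟩
  map_one' := Subtype.ext blk_one
  map_mul' g _ := Subtype.ext (blk_mul _ _ (col0_of_mem g.1 g.2))

theorem toSp_injective : Function.Injective (toSp m F) := by
  classical
  intro g h hgh
  have hA : blk (g.1 : Matrix (Idx m) (Idx m) F) = blk (h.1 : Matrix (Idx m) (Idx m) F) :=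
    congrArg Subtype.val hgh
  have hr : rw0 (g.1 : Matrix (Idx m) (Idx m) F) = rw0 (h.1 : Matrix (Idx m) (Idx m) F) := by
    funext j
    have h1 := key_identity g.1 g.2 (Pi.single j 1)
    have h2 := key_identity h.1 h.2 (Pi.single j 1)
    rw [hA] at h1
    have h3 : (rw0 (g.1 : Matrix (Idx m) (Idx m) F) ⬝ᵥ Pi.single j 1) ^ 2
        = (rw0 (h.1 : Matrix (Idx m) (Idx m) F) ⬝ᵥ Pi.single j 1) ^ 2 := by
      linear_combination h1 - h2
    have h4 := sq_eq_sq_char2 h3
    simpa using h4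
  have cg := col0_of_mem g.1 g.2
  have ch := col0_of_mem h.1 h.2
  apply Subtype.ext
  apply Units.ext
  ext i j
  rcases i with ⟨⟩ | i <;> rcases j with ⟨⟩ | j
  · rw [cg.1, ch.1]
  · exact congrFun hr j
  · rw [cg.2, ch.2]
  · exact congrFun (congrFun hA i) j


/-- The defect `q0 w + q0 (A w)` of a matrix `A`. -/
def defect (A : Matrix (Fin m ⊕ Fin m) (Fin m ⊕ Fin m) F) (w : Fin m ⊕ Fin m → F) : F :=
  q0 w + q0 (A *ᵥ w)

theorem defect_add (A : Matrix (Fin m ⊕ Fin m) (Fin m ⊕ Fin m) F)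
    (hA : ∀ w w', b0 (A *ᵥ w) (A *ᵥ w') = b0 w w') (w w' : Fin m ⊕ Fin m → F) :
    defect A (w + w') = defect A w + defect A w' := by
  unfold defect
  rw [Matrix.mulVec_add, q0_add, q0_add, hA]
  have two : (2 : F) = 0 := CharTwo.two_eq_zero
  linear_combination (b0 w w') * two

theorem defect_smul (A : Matrix (Fin m ⊕ Fin m) (Fin m ⊕ Fin m) F) (a : F)
    (w : Fin m ⊕ Fin m → F) : defect A (a • w) = a ^ 2 * defect A w := by
  unfold defect
  rw [Matrix.mulVec_smul, q0_smul, q0_smul]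
  ring

/-- The defect as an additive map. -/
def defectHom (A : Matrix (Fin m ⊕ Fin m) (Fin m ⊕ Fin m) F)
    (hA : ∀ w w', b0 (A *ᵥ w) (A *ᵥ w') = b0 w w') : (Fin m ⊕ Fin m → F) →+ F where
  toFun := defect A
  map_zero' := by simp [defect, q0_zero]
  map_add' := defect_add A hA

theorem row_sq (A : Matrix (Fin m ⊕ Fin m) (Fin m ⊕ Fin m) F)
    (hA : ∀ w w', b0 (A *ᵥ w) (A *ᵥ w') = b0 w w') (r : Fin m ⊕ Fin m → F)
    (hr : ∀ j, r j ^ 2 = defect A (Pi.single j 1)) (w : Fin m ⊕ Fin m → F) :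
    (r ⬝ᵥ w) ^ 2 = defect A w := by
  classical
  have hw : defect A w = defectHom A hA (∑ j, w j • (Pi.single j (1 : F) : Fin m ⊕ Fin m → F)) := by
    conv_lhs => rw [pi_eq_sum_univ' w]
    rfl
  rw [hw, map_sum]
  unfold dotProduct
  rw [sum_pow_char 2]
  apply Finset.sum_congr rfl
  intro j _
  show _ = defect A (w j • (Pi.single j (1 : F) : Fin m ⊕ Fin m → F))
  rw [defect_smul, ← hr]
  ring

theorem exists_sqrt [Finite F] (a : F) : ∃ r : F, r ^ 2 = a := by
  have hinj : Function.Injective (fun x : F => x ^ 2) := fun x y h => sq_eq_sq_char2 h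
  exact (Finite.injective_iff_surjective.mp hinj) a

theorem toSp_surjective [Finite F] : Function.Surjective (toSp m F) := by
  classical
  rintro ⟨A, hAmem⟩
  have hA : ∀ w w', b0 (A *ᵥ w) (A *ᵥ w') = b0 w w' := (mem_sp_iff A).mp hAmem
  choose r hr using fun j : Fin m ⊕ Fin m => exists_sqrt (defect A (Pi.single j 1))
  set M : Matrix (Idx m) (Idx m) F :=
    Matrix.fromBlocks (1 : Matrix Unit Unit F) (Matrix.of fun _ j => r j) 0 A with hM
  have hcol : Col0 M := by
    constructor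
    · simp [hM]
    · intro i
      simp [hM]
  have hblk : blk M = A := by
    ext i j
    simp [blk, hM]
  have hrw : rw0 M = r := by
    funext j
    simp [rw0, hM]
  have hdet : IsUnit M.det := by
    rw [hM, Matrix.det_fromBlocks_zero₂₁, Matrix.det_one, one_mul]
    exact SymplecticGroup.symplectic_det hAmem
  set g : Matrix.GeneralLinearGroup (Idx m) F := Matrix.GeneralLinearGroup.mk'' M hdet with hg
  have hgM : (g : Matrix (Idx m) (Idx m) F) = M := rfl
  have hmem : g ∈ Cfsg.isometryGroup F (Cfsg.quadFormOdd m F) := by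
    rw [mem_iso_iff]
    intro u
    rw [hgM, quad_mulVec M hcol, hrw, hblk, row_sq A hA r hr, quadFormOdd_eq]
    unfold defect
    have two : (2 : F) = 0 := CharTwo.two_eq_zero
    linear_combination (q0 (A *ᵥ fun j => u (Sum.inr j))) * two
  refine ⟨⟨g, hmem⟩, ?_⟩
  apply Subtype.ext
  exact hblk

/-- In characteristic 2, `O_{2m+1}(q) ≅ Sp_{2m}(q)`. -/
noncomputable def orthEquivSp (m : ℕ) (F : Type*) [Field F] [Finite F] [CharP F 2] :
    Cfsg.isometryGroup F (Cfsg.quadFormOdd m F) ≃* Matrix.symplecticGroup (Fin m) F :=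
  MulEquiv.ofBijective (toSp m F) ⟨toSp_injective, toSp_surjective⟩

end char2

end Cfsg.Agent.Lead.OddOrth
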