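import Mathlib

set_option autoImplicit false
set_option linter.style.haveILetI false
set_option linter.unusedSectionVars false

namespace Cfsg.Agent.Lead

open Module

variable {F : Type*} [Field F] [Finite F]

/-- Level sets of a nonzero linear functional on a finite space have `q^(d-1)` elements. -/
theorem card_levelSet {V : Type*} [AddCommGroup V] [Module F V] [FiniteDimensional F V]
    (φ : V →ₗ[F] F) (hφ : φ ≠ 0) (c : F) :
    Nat.card {v : V // φ v = c} = Nat.card F ^ (finrank F V - 1) := by
  have hsurj : Function.Surjective φ := by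
    have : LinearMap.range φ = ⊤ := by
      have h1 : finrank F (LinearMap.range φ) ≤ 1 := by
        have := Submodule.finrank_le (LinearMap.range φ)
        simpa using this
      have h2 : LinearMap.range φ ≠ ⊥ := by
        intro h
        apply hφ
        exact LinearMap.range_eq_bot.mp h
      have h3 : 0 < finrank F (LinearMap.range φ) := by
        rw [Module.finrank_pos_iff_of_free]
        exact Submodule.nontrivial_iff_ne_bot.mpr h2
      apply Submodule.eq_top_of_finrank_eq
      rw [Module.finrank_self]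
      omega
    exact LinearMap.range_eq_top.mp this
  obtain ⟨v0, hv0⟩ := hsurj c
  have e : {v : V // φ v = c} ≃ LinearMap.ker φ :=
    { toFun := fun v => ⟨v.1 - v0, by simp [LinearMap.mem_ker, v.2, hv0]⟩
      invFun := fun w => ⟨w.1 + v0, by
        have := w.2
        rw [LinearMap.mem_ker] at this
        simp [this, hv0]⟩
      left_inv := fun v => by simp
      right_inv := fun w => by simp }
  rw [Nat.card_congr e, Module.natCard_eq_pow_finrank (K := F) (V := LinearMap.ker φ)]
  congr 1
  have h := LinearMap.finrank_range_add_finrank_ker φ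
  rw [LinearMap.range_eq_top.mpr hsurj, finrank_top, Module.finrank_self] at h
  omega


/-- Number of nonzero vectors. -/
theorem card_ne_zero {V : Type*} [AddCommGroup V] [Module F V] [FiniteDimensional F V] :
    Nat.card {v : V // v ≠ 0} = Nat.card F ^ finrank F V - 1 := by
  haveI : Finite V := Module.finite_of_finite F
  have h1 : Nat.card {v : V // v ≠ 0} = Nat.card V - 1 := by
    classical
    haveI := Fintype.ofFinite V
    rw [Nat.card_eq_fintype_card, Nat.card_eq_fintype_card, Fintype.card_subtype_compl, Fintype.card_subtype_eq]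
  rw [h1, Module.natCard_eq_pow_finrank (K := F) (V := V)]

/-- Number of hyperbolic pairs of a nondegenerate form. -/
theorem card_hypPair {V : Type*} [AddCommGroup V] [Module F V] [FiniteDimensional F V]
    (B : LinearMap.BilinForm F V) (hB : B.Nondegenerate) :
    Nat.card {p : V × V // B p.1 p.2 = 1} =
      (Nat.card F ^ finrank F V - 1) * Nat.card F ^ (finrank F V - 1) := by
  haveI : Finite V := Module.finite_of_finite F
  classical
  haveI := Fintype.ofFinite V
  have e : {p : V × V // B p.1 p.2 = 1} ≃ Σ e : {e : V // e ≠ 0}, {f : V // B e.1 f = 1} :=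
    { toFun := fun p => ⟨⟨p.1.1, by
          intro h
          have := p.2
          rw [h] at this
          simp at this⟩, ⟨p.1.2, p.2⟩⟩
      invFun := fun s => ⟨(s.1.1, s.2.1), s.2.2⟩
      left_inv := fun p => by simp
      right_inv := fun s => by simp }
  rw [Nat.card_congr e, Nat.card_sigma]
  have hfib : ∀ e : {e : V // e ≠ 0}, Nat.card {f : V // B e.1 f = 1} = Nat.card F ^ (finrank F V - 1) := by
    intro e
    apply card_levelSet (B e.1)
    intro h
    apply e.2
    apply hB.1
    intro y
    rw [h]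
    simp
  simp only [hfib, Finset.sum_const, Finset.card_univ, smul_eq_mul]
  rw [← Nat.card_eq_fintype_card, card_ne_zero (F := F)]


section pair

variable {V : Type*} [AddCommGroup V] [Module F V] (B : LinearMap.BilinForm F V)

/-- The orthogonal complement of a pair of vectors, with an easy membership test. -/
def orthPair (e f : V) : Submodule F V := LinearMap.ker (B e) ⊓ LinearMap.ker (B f)

theorem mem_orthPair {e f x : V} : x ∈ orthPair B e f ↔ B e x = 0 ∧ B f x = 0 := by
  simp [orthPair, LinearMap.mem_ker]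

theorem orthPair_eq_orthogonal (e f : V) :
    orthPair B e f = B.orthogonal (Submodule.span F {e, f}) := by
  ext x
  rw [mem_orthPair, LinearMap.BilinForm.mem_orthogonal_iff]
  constructor
  · rintro ⟨h1, h2⟩ n hn
    show B n x = 0
    induction hn using Submodule.span_induction with
    | mem y hy =>
      rcases hy with rfl | rfl
      · exact h1
      · exact h2
    | zero => simp
    | add y z _ _ hy hz => simp [hy, hz]
    | smul a y _ hy => simp [hy]
  · intro h
    exact ⟨h e (Submodule.subset_span (by simp)), h f (Submodule.subset_span (by simp))⟩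

variable {B}

theorem linearIndependent_hypPair (hA : B.IsAlt) {e f : V} (h : B e f = 1) :
    LinearIndependent F ![e, f] := by
  rw [LinearIndependent.pair_iff]
  intro s t hst
  have h1 : B e (s • e + t • f) = 0 := by rw [hst]; simp
  have h2 : B (s • e + t • f) f = 0 := by rw [hst]; simp
  simp only [map_add, map_smul, smul_eq_mul, hA e, h, mul_zero, mul_one, zero_add] at h1
  simp only [map_add, map_smul, LinearMap.add_apply, LinearMap.smul_apply, smul_eq_mul, hA f, h,
    mul_zero, mul_one, add_zero] at h2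
  exact ⟨h2, h1⟩

theorem restrict_span_pair_nondegenerate (hA : B.IsAlt) {e f : V} (h : B e f = 1) :
    (B.restrict (Submodule.span F {e, f})).Nondegenerate := by
  have hfe : B f e = -1 := by rw [← LinearMap.IsAlt.neg hA e f, h]
  apply LinearMap.BilinForm.nondegenerate_restrict_of_disjoint_orthogonal B hA.isRefl
  rw [Submodule.disjoint_def]
  intro x hx hx'
  rw [← orthPair_eq_orthogonal, mem_orthPair] at hx'
  rw [Submodule.mem_span_pair] at hx
  obtain ⟨a, b, rfl⟩ := hx
  obtain ⟨h1, h2⟩ := hx'
  simp only [map_add, map_smul, smul_eq_mul, hA e, hA f, h, hfe, mul_zero, mul_one, zero_add, add_zero, mul_neg, neg_eq_zero] at h1 h2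
  simp [h1, h2]

variable [FiniteDimensional F V]

theorem finrank_orthPair (hB : B.Nondegenerate) (hA : B.IsAlt) {e f : V} (h : B e f = 1) :
    finrank F (orthPair B e f) = finrank F V - 2 := by
  rw [orthPair_eq_orthogonal, LinearMap.BilinForm.finrank_orthogonal hB]
  congr 1
  have := finrank_span_eq_card (linearIndependent_hypPair hA h)
  have hr : Set.range ![e, f] = {e, f} := by
    ext x
    simp [eq_comm, or_comm]
  rw [hr] at this
  simpa using this

theorem restrict_orthPair_nondegenerate (hB : B.Nondegenerate) (hA : B.IsAlt) {e f : V}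
    (h : B e f = 1) : (B.restrict (orthPair B e f)).Nondegenerate := by
  rw [orthPair_eq_orthogonal]
  rw [LinearMap.BilinForm.restrict_nondegenerate_iff_isCompl_orthogonal hA.isRefl,
    LinearMap.BilinForm.orthogonal_orthogonal hB hA.isRefl]
  exact (LinearMap.BilinForm.isCompl_orthogonal_of_restrict_nondegenerate hA.isRefl
    (restrict_span_pair_nondegenerate hA h)).symm

theorem restrict_isAlt (hA : B.IsAlt) (W : Submodule F V) : (B.restrict W).IsAlt := by
  intro x
  exact hA x

end pair


section fam

variable {V : Type*} [AddCommGroup V] [Module F V]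

/-- A symplectic family of `n` pairs: `B (e i) (e j) = 0`, `B (f i) (f j) = 0`, `B (e i) (f j) = δ`. -/
def IsSympFam (B : LinearMap.BilinForm F V) (n : ℕ) (p : (Fin n → V) × (Fin n → V)) : Prop :=
  (∀ i j, B (p.1 i) (p.1 j) = 0) ∧ (∀ i j, B (p.2 i) (p.2 j) = 0) ∧
    (∀ i j, B (p.1 i) (p.2 j) = if i = j then 1 else 0)

/-- head of a family of `n+1` pairs -/
def famHead (B : LinearMap.BilinForm F V) (n : ℕ)
    (p : {p : (Fin (n+1) → V) × (Fin (n+1) → V) // IsSympFam B (n+1) p}) :
    {h : V × V // B h.1 h.2 = 1} :=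
  ⟨(p.1.1 0, p.1.2 0), by simpa using p.2.2.2 0 0⟩

variable {B : LinearMap.BilinForm F V}

theorem famHead_eq_fst {n : ℕ} {h : {h : V × V // B h.1 h.2 = 1}}
    (p : {p : {p : (Fin (n+1) → V) × (Fin (n+1) → V) // IsSympFam B (n+1) p} // famHead B n p = h}) :
    h.1.1 = p.1.1.1 0 :=
  (congrArg (fun x : {h : V × V // B h.1 h.2 = 1} => x.1.1) p.2).symm

theorem famHead_eq_snd {n : ℕ} {h : {h : V × V // B h.1 h.2 = 1}}
    (p : {p : {p : (Fin (n+1) → V) × (Fin (n+1) → V) // IsSympFam B (n+1) p} // famHead B n p = h}) :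
    h.1.2 = p.1.1.2 0 :=
  (congrArg (fun x : {h : V × V // B h.1 h.2 = 1} => x.1.2) p.2).symm

/-- The fibre of `famHead` over a hyperbolic pair is the set of symplectic families of the
orthogonal complement. -/
noncomputable def fibreEquiv (hA : B.IsAlt) (n : ℕ) (h : {h : V × V // B h.1 h.2 = 1}) :
    {p : {p : (Fin (n+1) → V) × (Fin (n+1) → V) // IsSympFam B (n+1) p} // famHead B n p = h} ≃
    {p' : (Fin n → orthPair B h.1.1 h.1.2) × (Fin n → orthPair B h.1.1 h.1.2) //
      IsSympFam (B.restrict (orthPair B h.1.1 h.1.2)) n p'} where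
  toFun p := ⟨(fun i => ⟨p.1.1.1 i.succ, by
        rw [mem_orthPair, famHead_eq_fst p, famHead_eq_snd p]
        refine ⟨?_, ?_⟩
        · exact p.1.2.1 0 i.succ
        · show B (p.1.1.2 0) (p.1.1.1 i.succ) = 0
          rw [← LinearMap.IsAlt.neg hA, p.1.2.2.2 i.succ 0]
          simp [Fin.succ_ne_zero]⟩,
      fun i => ⟨p.1.1.2 i.succ, by
        rw [mem_orthPair, famHead_eq_fst p, famHead_eq_snd p]
        refine ⟨?_, ?_⟩
        · show B (p.1.1.1 0) (p.1.1.2 i.succ) = 0
          rw [p.1.2.2.2 0 i.succ]
          simp [(Fin.succ_ne_zero i).symm]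
        · exact p.1.2.2.1 0 i.succ⟩), by
      refine ⟨fun i j => ?_, fun i j => ?_, fun i j => ?_⟩
      · exact p.1.2.1 i.succ j.succ
      · exact p.1.2.2.1 i.succ j.succ
      · show B (p.1.1.1 i.succ) (p.1.1.2 j.succ) = _
        rw [p.1.2.2.2 i.succ j.succ]
        simp [Fin.succ_inj]⟩
  invFun p' := ⟨⟨(Fin.cons h.1.1 (fun i => (p'.1.1 i : V)), Fin.cons h.1.2 (fun i => (p'.1.2 i : V))), by
      have he : ∀ i, B h.1.1 (p'.1.1 i : V) = 0 ∧ B h.1.2 (p'.1.1 i : V) = 0 :=
        fun i => (mem_orthPair B).mp (p'.1.1 i).2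
      have hf : ∀ i, B h.1.1 (p'.1.2 i : V) = 0 ∧ B h.1.2 (p'.1.2 i : V) = 0 :=
        fun i => (mem_orthPair B).mp (p'.1.2 i).2
      have sw : ∀ x y : V, B x y = 0 → B y x = 0 := fun x y hxy => by
        rw [← LinearMap.IsAlt.neg hA, hxy, neg_zero]
      refine ⟨fun i j => ?_, fun i j => ?_, fun i j => ?_⟩
      · refine Fin.cases ?_ (fun i => ?_) i <;> refine Fin.cases ?_ (fun j => ?_) j
        · simpa using hA h.1.1
        · simpa using (he j).1
        · simpa using sw _ _ (he i).1
        · simpa using p'.2.1 i j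
      · refine Fin.cases ?_ (fun i => ?_) i <;> refine Fin.cases ?_ (fun j => ?_) j
        · simpa using hA h.1.2
        · simpa using (hf j).2
        · simpa using sw _ _ (hf i).2
        · simpa using p'.2.2.1 i j
      · refine Fin.cases ?_ (fun i => ?_) i <;> refine Fin.cases ?_ (fun j => ?_) j
        · simpa using h.2
        · simpa [(Fin.succ_ne_zero j).symm] using (hf j).1
        · simpa [Fin.succ_ne_zero] using sw _ _ (he i).2
        · simpa [Fin.succ_inj] using p'.2.2.2 i j⟩, by
      apply Subtype.ext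
      simp [famHead]⟩
  left_inv p := by
    apply Subtype.ext
    apply Subtype.ext
    have h1 : p.1.1.1 0 = h.1.1 := (famHead_eq_fst p).symm
    have h2 : p.1.1.2 0 = h.1.2 := (famHead_eq_snd p).symm
    apply Prod.ext
    · funext i
      refine Fin.cases ?_ (fun i => ?_) i
      · simp [h1]
      · simp
    · funext i
      refine Fin.cases ?_ (fun i => ?_) i
      · simp [h2]
      · simp
  right_inv p' := by
    apply Subtype.ext
    apply Prod.ext
    · funext i
      apply Subtype.ext
      simp
    · funext i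
      apply Subtype.ext
      simp

end fam

universe u

/-- Number of symplectic families of `n` pairs in a nondegenerate alternating space of dimension `2n`. -/
theorem card_sympFam (n : ℕ) : ∀ (V : Type u) [AddCommGroup V] [Module F V] [FiniteDimensional F V]
    (B : LinearMap.BilinForm F V), B.Nondegenerate → B.IsAlt → finrank F V = 2 * n →
    Nat.card {p : (Fin n → V) × (Fin n → V) // IsSympFam B n p} =
      Nat.card F ^ (n ^ 2) * ∏ i ∈ Finset.range n, (Nat.card F ^ (2 * (i + 1)) - 1) := by
  induction n with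
  | zero =>
    intro V _ _ _ B _ _ _
    have : Unique {p : (Fin 0 → V) × (Fin 0 → V) // IsSympFam B 0 p} :=
      { default := ⟨(Fin.elim0, Fin.elim0), ⟨fun i => i.elim0, fun i => i.elim0, fun i => i.elim0⟩⟩
        uniq := fun p => by
          apply Subtype.ext
          apply Prod.ext <;> (funext i; exact i.elim0) }
    simp
  | succ n ih =>
    intro V _ _ _ B hB hA hd
    haveI : Finite V := Module.finite_of_finite F
    classical
    haveI := Fintype.ofFinite V
    rw [← Nat.card_congr (Equiv.sigmaFiberEquiv (famHead B n)), Nat.card_sigma]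
    have hfib : ∀ h : {h : V × V // B h.1 h.2 = 1},
        Nat.card {p : {p : (Fin (n+1) → V) × (Fin (n+1) → V) // IsSympFam B (n+1) p} // famHead B n p = h}
          = Nat.card F ^ (n ^ 2) * ∏ i ∈ Finset.range n, (Nat.card F ^ (2 * (i + 1)) - 1) := by
      intro h
      rw [Nat.card_congr (fibreEquiv hA n h)]
      apply ih
      · exact restrict_orthPair_nondegenerate hB hA h.2
      · exact restrict_isAlt hA _
      · rw [finrank_orthPair hB hA h.2, hd]
        omega
    simp only [hfib, Finset.sum_const, Finset.card_univ, smul_eq_mul]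
    rw [← Nat.card_eq_fintype_card, card_hypPair B hB, hd, Finset.prod_range_succ]
    have e1 : 2 * (n + 1) - 1 = 2 * n + 1 := by omega
    rw [e1]
    have e2 : (n + 1) ^ 2 = (2 * n + 1) + n ^ 2 := by ring
    rw [e2, pow_add]
    ring


section matrix

open Matrix

variable {l : Type} [Fintype l] [DecidableEq l]

/-- The standard alternating form on `l ⊕ l → F`. -/
noncomputable def stdForm (l : Type) [Fintype l] [DecidableEq l] (F : Type*) [Field F] :
    LinearMap.BilinForm F (l ⊕ l → F) := Matrix.toBilin' (Matrix.J l F)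

theorem stdForm_rows (A : Matrix (l ⊕ l) (l ⊕ l) F) (x y : l ⊕ l) :
    stdForm l F (A x) (A y) = (A * Matrix.J l F * Aᵀ) x y := by
  rw [stdForm, Matrix.toBilin'_apply']
  simp only [dotProduct, Matrix.mulVec, Matrix.mul_apply, Matrix.transpose_apply, Finset.sum_mul,
    Finset.mul_sum]
  rw [Finset.sum_comm]
  apply Finset.sum_congr rfl
  intro b _
  apply Finset.sum_congr rfl
  intro a _
  ring

theorem stdForm_isAlt : (stdForm l F).IsAlt := by
  intro v
  rw [stdForm, Matrix.toBilin'_apply']
  simp only [dotProduct, Matrix.mulVec, Fintype.sum_sum_type, Matrix.J, Matrix.fromBlocks_apply₁₁,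
    Matrix.fromBlocks_apply₁₂, Matrix.fromBlocks_apply₂₁, Matrix.fromBlocks_apply₂₂,
    Matrix.zero_apply, zero_mul, Finset.sum_const_zero, zero_add, add_zero, Matrix.neg_apply,
    Matrix.one_apply, neg_mul, ite_mul, one_mul, Finset.sum_neg_distrib, Finset.sum_ite_eq,
    Finset.mem_univ, if_true, mul_neg]
  rw [neg_add_eq_zero]
  apply Finset.sum_congr rfl
  intro a _
  ring

theorem stdForm_nondegenerate : (stdForm l F).Nondegenerate := by
  apply LinearMap.BilinForm.nondegenerate_toBilin'_of_det_ne_zero'
  exact (Matrix.isUnit_det_J l F).ne_zero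

theorem J_apply_inl_inl (a b : l) : Matrix.J l F (Sum.inl a) (Sum.inl b) = 0 := by simp [Matrix.J]
theorem J_apply_inr_inr (a b : l) : Matrix.J l F (Sum.inr a) (Sum.inr b) = 0 := by simp [Matrix.J]
theorem J_apply_inl_inr (a b : l) :
    Matrix.J l F (Sum.inl a) (Sum.inr b) = if a = b then -1 else 0 := by
  simp [Matrix.J, Matrix.one_apply]
  split_ifs <;> simp
theorem J_apply_inr_inl (a b : l) :
    Matrix.J l F (Sum.inr a) (Sum.inl b) = if a = b then 1 else 0 := by
  simp [Matrix.J, Matrix.one_apply]

/-- The matrix whose rows are `f` (rows `inl`) and `e` (rows `inr`). -/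
def rowsMat (p : (l → (l ⊕ l → F)) × (l → (l ⊕ l → F))) : Matrix (l ⊕ l) (l ⊕ l) F :=
  fun x => Sum.elim p.2 p.1 x

theorem rowsMat_inl (p : (l → (l ⊕ l → F)) × (l → (l ⊕ l → F))) (a : l) :
    rowsMat p (Sum.inl a) = p.2 a := rfl

theorem rowsMat_inr (p : (l → (l ⊕ l → F)) × (l → (l ⊕ l → F))) (a : l) :
    rowsMat p (Sum.inr a) = p.1 a := rfl

theorem stdForm_swap (u v : l ⊕ l → F) : stdForm l F u v = - stdForm l F v u :=
  (LinearMap.IsAlt.neg (stdForm_isAlt (l := l) (F := F)) v u).symm

theorem rowsMat_mem (p : (l → (l ⊕ l → F)) × (l → (l ⊕ l → F)))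
    (h1 : ∀ i j, stdForm l F (p.1 i) (p.1 j) = 0) (h2 : ∀ i j, stdForm l F (p.2 i) (p.2 j) = 0)
    (h3 : ∀ i j, stdForm l F (p.1 i) (p.2 j) = if i = j then 1 else 0) :
    rowsMat p ∈ Matrix.symplecticGroup l F := by
  rw [SymplecticGroup.mem_iff]
  ext x y
  rw [← stdForm_rows]
  rcases x with a | a <;> rcases y with b | b
  · rw [rowsMat_inl, rowsMat_inl, J_apply_inl_inl, h2]
  · rw [rowsMat_inl, rowsMat_inr, J_apply_inl_inr, stdForm_swap, h3]
    by_cases hab : a = b
    · simp [hab]
    · simp [hab, Ne.symm hab]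
  · rw [rowsMat_inr, rowsMat_inl, J_apply_inr_inl, h3]
  · rw [rowsMat_inr, rowsMat_inr, J_apply_inr_inr, h1]

/-- Symplectic matrices correspond to symplectic families of rows. -/
noncomputable def spEquivFam (m : ℕ) :
    Matrix.symplecticGroup (Fin m) F ≃
      {p : (Fin m → (Fin m ⊕ Fin m → F)) × (Fin m → (Fin m ⊕ Fin m → F)) //
        IsSympFam (stdForm (Fin m) F) m p} where
  toFun A := ⟨(fun i => A.1 (Sum.inr i), fun i => A.1 (Sum.inl i)), by
    have hA := A.2
    rw [SymplecticGroup.mem_iff] at hA
    refine ⟨fun i j => ?_, fun i j => ?_, fun i j => ?_⟩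
    · show stdForm (Fin m) F (A.1 (Sum.inr i)) (A.1 (Sum.inr j)) = 0
      rw [stdForm_rows, hA, J_apply_inr_inr]
    · show stdForm (Fin m) F (A.1 (Sum.inl i)) (A.1 (Sum.inl j)) = 0
      rw [stdForm_rows, hA, J_apply_inl_inl]
    · show stdForm (Fin m) F (A.1 (Sum.inr i)) (A.1 (Sum.inl j)) = _
      rw [stdForm_rows, hA, J_apply_inr_inl]⟩
  invFun p := ⟨rowsMat p.1, rowsMat_mem p.1 p.2.1 p.2.2.1 p.2.2.2⟩
  left_inv A := by
    apply Subtype.ext
    funext x
    rcases x with a | a <;> rfl
  right_inv p := by
    apply Subtype.ext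
    rfl

/-- Order of the finite symplectic group. -/
theorem card_symplecticGroup (m : ℕ) :
    Nat.card (Matrix.symplecticGroup (Fin m) F) =
      Nat.card F ^ (m ^ 2) * ∏ i ∈ Finset.range m, (Nat.card F ^ (2 * (i + 1)) - 1) := by
  rw [Nat.card_congr (spEquivFam m)]
  apply card_sympFam m _ _ stdForm_nondegenerate stdForm_isAlt
  simp [two_mul]

end matrix

end Cfsg.Agent.Lead
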