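import Mathlib
import Cfsg.Agent.Lib.Helper5.SpTv
import Cfsg.Agent.Lib.Lead.SpCard

set_option autoImplicit false

namespace Cfsg.Agent.Lead.SpTvCent

open Matrix Cfsg.Agent.Helper5

variable {F : Type*} [Field F]

section general
variable {n : Type*} [Fintype n] [DecidableEq n]

/-- A square matrix of rank one is an outer product of two nonzero vectors. -/
lemma exists_vecMulVec_of_rank_one (N : Matrix n n F) (h : N.rank = 1) :
    ∃ u φ : n → F, u ≠ 0 ∧ φ ≠ 0 ∧ N = vecMulVec u φ := by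
  unfold Matrix.rank at h
  rw [finrank_eq_one_iff'] at h
  obtain ⟨⟨u, hu⟩, hu0, hspan⟩ := h
  have hcol : ∀ j, ∃ c : F, c • u = N *ᵥ Pi.single j 1 := fun j => by
    obtain ⟨c, hc⟩ := hspan ⟨N *ᵥ Pi.single j 1, ⟨Pi.single j 1, rfl⟩⟩
    exact ⟨c, congrArg Subtype.val hc⟩
  choose φ hφ using hcol
  have hN : N = vecMulVec u φ := by
    ext i j
    have := congrFun (hφ j) i
    rw [Matrix.mulVec_single_one] at this
    simp only [Pi.smul_apply, smul_eq_mul, Matrix.col_apply] at this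
    rw [vecMulVec_apply, ← this, mul_comm]
  have hu0' : u ≠ 0 := fun h0 => hu0 (Subtype.ext h0)
  refine ⟨u, φ, hu0', ?_, hN⟩
  rintro rfl
  obtain ⟨y, hy⟩ := hu
  apply hu0'
  rw [← hy, hN]
  simp
end general

section symp
variable {l : Type*} [DecidableEq l] [Fintype l]

lemma J_mulVec_ne_zero {u : l ⊕ l → F} (hu : u ≠ 0) : J l F *ᵥ u ≠ 0 := by
  intro h
  apply hu
  have := J_mulVec_J_mulVec u
  rw [h, Matrix.mulVec_zero] at this
  exact neg_eq_zero.1 this.symm

lemma vecMul_J (u : l ⊕ l → F) : u ᵥ* J l F = - (J l F *ᵥ u) := by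
  rw [← Matrix.mulVec_transpose, J_transpose, Matrix.neg_mulVec]

/-- A symplectic matrix `A` with `A - 1` of rank one is a symplectic transvection. -/
lemma exists_spTv_of_rank_one (A : Matrix (l ⊕ l) (l ⊕ l) F) (hA : A ∈ symplecticGroup l F)
    (h : (A - 1).rank = 1) : ∃ (u : l ⊕ l → F) (c : F), u ≠ 0 ∧ c ≠ 0 ∧ A = spTv u c := by
  obtain ⟨u, φ, hu, hφ, hN⟩ := exists_vecMulVec_of_rank_one (A - 1) h
  have hA' : A = 1 + vecMulVec u φ := by rw [← hN]; abel
  rw [SymplecticGroup.mem_iff'] at hA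
  have key : vecMulVec (J l F *ᵥ u) φ = vecMulVec φ (J l F *ᵥ u) := by
    have h1 : Aᵀ * J l F * A = J l F + vecMulVec (J l F *ᵥ u) φ - vecMulVec φ (J l F *ᵥ u) := by
      rw [hA', Matrix.transpose_add, Matrix.transpose_one, Matrix.transpose_vecMulVec]
      simp only [Matrix.add_mul, Matrix.one_mul, Matrix.mul_add, Matrix.mul_one,
        Matrix.vecMulVec_mul, Matrix.mul_vecMulVec,
        vecMul_J, Matrix.vecMulVec_neg, Matrix.add_mulVec, Matrix.neg_mulVec,
        Matrix.vecMulVec_mulVec]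
      rw [dotProduct_comm, dotProduct_J_mulVec_self]
      simp
      abel
    rw [h1] at hA
    have h2 : vecMulVec (J l F *ᵥ u) φ - vecMulVec φ (J l F *ᵥ u) = 0 := by
      have := congrArg (fun M => M - J l F) hA
      simpa [add_sub_assoc] using this
    exact sub_eq_zero.1 h2
  obtain ⟨i, hi⟩ := Function.ne_iff.1 (J_mulVec_ne_zero hu)
  rw [Pi.zero_apply] at hi
  have hφ' : φ = (φ i / (J l F *ᵥ u) i) • (J l F *ᵥ u) := by
    ext j
    have := congrFun (congrFun key i) j
    rw [vecMulVec_apply, vecMulVec_apply] at this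
    rw [Pi.smul_apply, smul_eq_mul]
    field_simp
    rw [← this]; ring
  refine ⟨u, φ i / (J l F *ᵥ u) i, hu, ?_, ?_⟩
  · intro h0
    apply hφ
    rw [hφ', h0, zero_smul]
  · rw [hA', spTv]
    conv_lhs => rw [hφ']
    rw [Matrix.vecMulVec_smul]

/-- Conjugating a transvection by a symplectic matrix. -/
lemma mul_spTv (G : Matrix (l ⊕ l) (l ⊕ l) F) (hG : G ∈ symplecticGroup l F)
    (u : l ⊕ l → F) (c : F) : G * spTv u c = spTv (G *ᵥ u) c * G := by
  rw [SymplecticGroup.mem_iff'] at hG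
  have h1 : (J l F *ᵥ (G *ᵥ u)) ᵥ* G = J l F *ᵥ u := by
    rw [← Matrix.mulVec_transpose, Matrix.mulVec_mulVec, Matrix.mulVec_mulVec, hG]
  rw [spTv, spTv, Matrix.mul_add, Matrix.mul_one, Matrix.add_mul, Matrix.one_mul,
    Matrix.mul_smul, Matrix.smul_mul, Matrix.mul_vecMulVec, Matrix.vecMulVec_mul, h1]

/-- In characteristic two the vector of a symplectic transvection is determined by it. -/
lemma spTv_inj [CharP F 2] {u w : l ⊕ l → F} {c : F} (hu : u ≠ 0) (hc : c ≠ 0)
    (h : spTv u c = spTv w c) : u = w := by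
  have h1 : vecMulVec u (J l F *ᵥ u) = vecMulVec w (J l F *ᵥ w) := by
    rw [spTv, spTv] at h
    exact smul_right_injective _ hc (add_left_cancel h)
  have hent : ∀ k j, u k * (J l F *ᵥ u) j = w k * (J l F *ᵥ w) j := fun k j => by
    have := congrFun (congrFun h1 k) j
    rwa [vecMulVec_apply, vecMulVec_apply] at this
  obtain ⟨i, hi⟩ := Function.ne_iff.1 (J_mulVec_ne_zero hu)
  obtain ⟨k0, hk0⟩ := Function.ne_iff.1 hu
  rw [Pi.zero_apply] at hi hk0
  set μ : F := (J l F *ᵥ w) i / (J l F *ᵥ u) i with hμ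
  have huw : u = μ • w := by
    ext k
    rw [Pi.smul_apply, smul_eq_mul, hμ]
    field_simp
    rw [hent k i, mul_comm]
  have hJ : J l F *ᵥ u = μ • (J l F *ᵥ w) := by rw [huw, Matrix.mulVec_smul]
  have h2 := hent k0 i
  have hwk0 : w k0 ≠ 0 := by
    intro h0
    apply hk0
    rw [huw, Pi.smul_apply, h0, smul_zero]
  have hJw : (J l F *ᵥ w) i ≠ 0 := by
    intro h0
    apply hi
    rw [hJ, Pi.smul_apply, h0, smul_zero]
  have h3 : μ * μ = 1 := by
    have huk : u k0 = μ * w k0 := congrFun huw k0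
    have hJi : (J l F *ᵥ u) i = μ * (J l F *ᵥ w) i := congrFun hJ i
    have : (μ * μ) * (w k0 * (J l F *ᵥ w) i) = 1 * (w k0 * (J l F *ᵥ w) i) := by
      rw [huk, hJi] at h2
      linear_combination h2
    exact mul_right_cancel₀ (mul_ne_zero hwk0 hJw) this
  have h4 : μ = 1 := by
    have h5 : (μ + 1) * (μ + 1) = 0 := by
      have h2' : (2 : F) = 0 := CharP.cast_eq_zero F 2
      calc (μ + 1) * (μ + 1) = μ * μ + 2 * μ + 1 := by ring
        _ = 0 := by rw [h3, h2']; ring_nf; exact_mod_cast h2'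
    have h6 : μ + 1 = 0 := by
      rcases mul_eq_zero.1 h5 with h | h <;> exact h
    have h7 : μ = -1 := eq_neg_of_add_eq_zero_left h6
    rw [h7]
    exact CharTwo.neg_eq 1
  rw [huw, h4, one_smul]

/-- The natural action of the symplectic group on vectors. -/
@[reducible] def spAction : MulAction (symplecticGroup l F) (l ⊕ l → F) where
  smul g v := (g : Matrix (l ⊕ l) (l ⊕ l) F) *ᵥ v
  one_smul v := Matrix.one_mulVec v
  mul_smul g h v := (Matrix.mulVec_mulVec v g.1 h.1).symm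

attribute [local instance] spAction

lemma centralizer_eq_stabilizer [CharP F 2] (u : l ⊕ l → F) (c : F) (hu : u ≠ 0) (hc : c ≠ 0) :
    Subgroup.centralizer ({⟨spTv u c, spTv_mem u c⟩} : Set (symplecticGroup l F)) =
      MulAction.stabilizer (symplecticGroup l F) u := by
  ext g
  rw [Subgroup.mem_centralizer_singleton_iff, MulAction.mem_stabilizer_iff]
  have h1 : g * ⟨spTv u c, spTv_mem u c⟩ =
      (⟨spTv ((g : Matrix (l ⊕ l) (l ⊕ l) F) *ᵥ u) c, spTv_mem _ c⟩ : symplecticGroup l F) * g :=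
    Subtype.ext (mul_spTv g.1 g.2 u c)
  constructor
  · intro h
    rw [h] at h1
    have h2 := mul_right_cancel h1
    have h3 : spTv u c = spTv ((g : Matrix (l ⊕ l) (l ⊕ l) F) *ᵥ u) c := congrArg Subtype.val h2
    exact (spTv_inj hu hc h3).symm
  · intro h
    have h' : (g : Matrix (l ⊕ l) (l ⊕ l) F) *ᵥ u = u := h
    rw [h1]
    congr 2
    rw [h']

lemma orbit_eq (u : l ⊕ l → F) (hu : u ≠ 0) :
    MulAction.orbit (symplecticGroup l F) u = ({0} : Set (l ⊕ l → F))ᶜ := by
  ext v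
  rw [MulAction.mem_orbit_iff, Set.mem_compl_iff, Set.mem_singleton_iff]
  constructor
  · rintro ⟨g, rfl⟩ h0
    apply hu
    have : g⁻¹ • (g • u) = u := inv_smul_smul g u
    rw [h0] at this
    rw [← this]
    exact Matrix.mulVec_zero _
  · intro hv
    obtain ⟨g, hg⟩ := sp_transitive u v hu hv
    exact ⟨g, hg⟩

lemma card_stabilizer_mul [Finite F] (u : l ⊕ l → F) (hu : u ≠ 0) :
    Nat.card (MulAction.stabilizer (symplecticGroup l F) u) *
      (Nat.card F ^ Fintype.card (l ⊕ l) - 1) = Nat.card (symplecticGroup l F) := by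
  rw [← Subgroup.card_mul_index (MulAction.stabilizer (symplecticGroup l F) u),
    MulAction.index_stabilizer, orbit_eq u hu, Set.ncard_compl, Set.ncard_singleton,
    Nat.card_fun, Nat.card_eq_fintype_card (α := l ⊕ l)]

end symp

end Cfsg.Agent.Lead.SpTvCent
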