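import Mathlib
import Cfsg.Agent.Lib.Lead.SpTvCent

/-!
# Symplectic transvections: rank, involutions in characteristic two, braid relation
-/

set_option autoImplicit false
set_option linter.unusedSectionVars false

namespace Cfsg.Agent.Lead.SpTv3

open Matrix Cfsg.Agent.Helper5 Cfsg.Agent.Lead.SpTvCent

variable {F : Type*} [Field F]

section general
variable {n : Type*} [Fintype n] [DecidableEq n]

lemma vecMulVec_ne_zero {u φ : n → F} (hu : u ≠ 0) (hφ : φ ≠ 0) : vecMulVec u φ ≠ 0 := by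
  obtain ⟨i, hi⟩ := Function.ne_iff.1 hu
  obtain ⟨j, hj⟩ := Function.ne_iff.1 hφ
  intro h
  have := congrFun (congrFun h i) j
  rw [vecMulVec_apply] at this
  exact mul_ne_zero hi hj this

lemma rank_ne_zero_of_ne_zero {N : Matrix n n F} (hN : N ≠ 0) : N.rank ≠ 0 := by
  intro h
  apply hN
  unfold Matrix.rank at h
  rw [Submodule.finrank_eq_zero, LinearMap.range_eq_bot] at h
  ext i j
  have := congrFun (congrArg (fun f => f (Pi.single j 1)) h) i
  simpa using this

lemma rank_vecMulVec_eq_one {u φ : n → F} (hu : u ≠ 0) (hφ : φ ≠ 0) :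
    (vecMulVec u φ).rank = 1 := by
  have h1 := Matrix.rank_vecMulVec_le u φ
  have h2 := rank_ne_zero_of_ne_zero (vecMulVec_ne_zero hu hφ)
  omega

end general

section symp
variable {l : Type*} [DecidableEq l] [Fintype l]

lemma rank_spTv_sub_one {u : l ⊕ l → F} {c : F} (hu : u ≠ 0) (hc : c ≠ 0) :
    (spTv u c - 1).rank = 1 := by
  have : spTv u c - 1 = vecMulVec (c • u) (J l F *ᵥ u) := by
    rw [spTv, add_sub_cancel_left, Matrix.smul_vecMulVec]
  rw [this]
  exact rank_vecMulVec_eq_one (smul_ne_zero hc hu) (J_mulVec_ne_zero hu)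

lemma spTv_ne_one {u : l ⊕ l → F} {c : F} (hu : u ≠ 0) (hc : c ≠ 0) : spTv u c ≠ 1 := by
  intro h
  have h1 := rank_spTv_sub_one hu hc
  rw [h, sub_self, Matrix.rank_zero] at h1
  exact zero_ne_one h1

lemma spTv_mul_spTv (u : l ⊕ l → F) (a b : F) : spTv u a * spTv u b = spTv u (a + b) := by
  rw [spTv, spTv, spTv, Matrix.add_mul, Matrix.one_mul, Matrix.mul_add, Matrix.mul_one,
    Matrix.smul_mul, Matrix.mul_smul, Matrix.vecMulVec_mul_vecMulVec, dotProduct_comm,
    dotProduct_J_mulVec_self, zero_smul, Matrix.vecMulVec_zero, smul_zero, smul_zero, add_zero,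
    add_smul]
  abel

lemma spTv_zero (u : l ⊕ l → F) : spTv u 0 = 1 := by
  rw [spTv, zero_smul, add_zero]

end symp

end Cfsg.Agent.Lead.SpTv3
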