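import Mathlib
import Cfsg.Agent.S4337

/-!
# Perfect groups and subgroups of small index

* a homomorphism from a perfect group to a solvable group is trivial;
* a perfect group has no proper subgroup of index `≤ 4`;
* a perfect subgroup of index `≤ 4` is normal;
* if `N` is a perfect normal subgroup with abelian quotient then `N` is the commutator subgroup;
* a central extension `π : G → H` of a perfect group induces `G / Z(G) ≃* H / Z(H)`.
-/

set_option autoImplicit false
set_option linter.style.haveILetI false

namespace Cfsg.Agent.Lead.PerfectIndex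

variable {G : Type*} [Group G]

theorem range_le_derivedSeries {H : Type*} [Group H] (f : G →* H) (hperf : commutator G = ⊤)
    (n : ℕ) : f.range ≤ derivedSeries H n := by
  induction n with
  | zero => exact le_top
  | succ n ih =>
    rw [derivedSeries_succ]
    have h1 : f.range = ⁅f.range, f.range⁆ := by
      conv_lhs => rw [MonoidHom.range_eq_map, ← hperf, commutator_def, Subgroup.map_commutator,
        ← MonoidHom.range_eq_map]
    rw [h1]
    exact Subgroup.commutator_mono ih ih

/-- A homomorphism from a perfect group to a solvable group is trivial. -/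
theorem hom_apply_eq_one {H : Type*} [Group H] [Group.IsSolvable H] (f : G →* H)
    (hperf : commutator G = ⊤) (g : G) : f g = 1 := by
  obtain ⟨n, hn⟩ := Group.IsSolvable.solvable (G := H)
  have h := range_le_derivedSeries f hperf n
  rw [hn] at h
  exact (Subgroup.mem_bot).1 (h ⟨g, rfl⟩)

/-- A perfect group has no proper subgroup of index at most four. -/
theorem eq_top_of_index_le_four (hperf : commutator G = ⊤) (M : Subgroup G) (h0 : M.index ≠ 0)
    (h4 : M.index ≤ 4) : M = ⊤ := by
  classical
  haveI : M.FiniteIndex := ⟨h0⟩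
  haveI : Fintype (G ⧸ M) := Fintype.ofFinite _
  haveI : Group.IsSolvable (Equiv.Perm (G ⧸ M)) := by
    apply Cfsg.Agent.S4337.isSolvable_perm_of_card_le
    rw [← Nat.card_eq_fintype_card]
    exact h4
  rw [eq_top_iff]
  intro g _
  have h1 := hom_apply_eq_one (MulAction.toPermHom G (G ⧸ M)) hperf g
  have h2 := congrArg (fun σ : Equiv.Perm (G ⧸ M) => σ ((1 : G) : G ⧸ M)) h1
  simp only [MulAction.toPermHom_apply, MulAction.toPerm_apply, Equiv.Perm.coe_one, id_eq] at h2
  rw [MulAction.Quotient.smul_coe, smul_eq_mul, mul_one, QuotientGroup.eq, mul_one] at h2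
  exact (inv_mem_iff (x := g)).1 h2

/-- A perfect subgroup of index at most four is normal. -/
theorem normal_of_index_le_four (N : Subgroup G) (hperf : commutator N = ⊤) (h0 : N.index ≠ 0)
    (h4 : N.index ≤ 4) : N.Normal := by
  have key : ∀ x : G, N ≤ N.map (MulAut.conj x).toMonoidHom := by
    intro x
    set Nx := N.map (MulAut.conj x).toMonoidHom with hNx
    have hidx : Nx.index = N.index := Subgroup.index_map_equiv N (MulAut.conj x)
    have h1 : (Nx.subgroupOf N).index ≤ 4 := by
      change Nx.relIndex N ≤ 4
      have h2 : Nx.relIndex N ≤ Nx.relIndex ⊤ :=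
        Subgroup.relIndex_le_of_le_right le_top (by rw [Subgroup.relIndex_top_right, hidx]; exact h0)
      rw [Subgroup.relIndex_top_right, hidx] at h2
      exact h2.trans h4
    have h3 : (Nx.subgroupOf N).index ≠ 0 := by
      change Nx.relIndex N ≠ 0
      intro h
      have := Subgroup.index_eq_zero_of_relIndex_eq_zero h
      rw [hidx] at this
      exact h0 this
    have h5 := eq_top_of_index_le_four hperf (Nx.subgroupOf N) h3 h1
    rwa [Subgroup.subgroupOf_eq_top] at h5
  refine ⟨fun n hn g => ?_⟩
  obtain ⟨n', hn', h⟩ := key g⁻¹ hn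
  have h' : g⁻¹ * n' * g = n := by simpa using h
  rw [← h']
  simpa [mul_assoc] using hn'

/-- The image of a perfect group is perfect. -/
theorem commutator_range_eq_top {H : Type*} [Group H] (f : G →* H) (hperf : commutator G = ⊤) :
    commutator f.range = ⊤ := by
  have hs : Function.Surjective f.rangeRestrict := f.rangeRestrict_surjective
  rw [commutator_def, ← Subgroup.map_top_of_surjective f.rangeRestrict hs,
    ← Subgroup.map_commutator, ← commutator_def, hperf]

/-- A perfect normal subgroup with abelian quotient is the commutator subgroup. -/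
theorem commutator_eq_of_perfect_normal (N : Subgroup G) [N.Normal] (hperf : commutator N = ⊤)
    (hab : ∀ a b : G ⧸ N, a * b = b * a) : commutator G = N := by
  apply le_antisymm
  · letI : CommGroup (G ⧸ N) := { (inferInstance : Group (G ⧸ N)) with mul_comm := hab }
    have := Abelianization.commutator_subset_ker (QuotientGroup.mk' N)
    rwa [QuotientGroup.ker_mk'] at this
  · have h1 : N = ⁅N, N⁆ := by
      conv_lhs => rw [← Subgroup.range_subtype N, MonoidHom.range_eq_map, ← hperf, commutator_def,
        Subgroup.map_commutator, ← MonoidHom.range_eq_map, Subgroup.range_subtype]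
    rw [h1, commutator_def]
    exact Subgroup.commutator_mono le_top le_top

/-- For a central extension of a perfect group, the preimage of the centre is the centre. -/
theorem comap_center_eq {H : Type*} [Group H] (π : G →* H) (hπ : Function.Surjective π)
    (hperf : commutator G = ⊤) (hker : π.ker ≤ Subgroup.center G) :
    (Subgroup.center H).comap π = Subgroup.center G := by
  apply le_antisymm
  · intro g hg
    rw [Subgroup.mem_comap] at hg
    have hc : ∀ h : G, g * h * g⁻¹ * h⁻¹ ∈ Subgroup.center G := by
      intro h
      apply hker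
      rw [MonoidHom.mem_ker, map_mul, map_mul, map_mul, map_inv, map_inv]
      have := Subgroup.mem_center_iff.1 hg (π h)
      rw [← this]
      group
    let ψ : G →* Subgroup.center G := MonoidHom.mk' (fun h => ⟨g * h * g⁻¹ * h⁻¹, hc h⟩) (by
      intro a b
      apply Subtype.ext
      have hb := Subgroup.mem_center_iff.1 (hc b)
      change g * (a * b) * g⁻¹ * (a * b)⁻¹ = (g * a * g⁻¹ * a⁻¹) * (g * b * g⁻¹ * b⁻¹)
      have h1 : g * (a * b) * g⁻¹ * (a * b)⁻¹ = g * a * g⁻¹ * (g * b * g⁻¹ * b⁻¹) * a⁻¹ := by group
      rw [h1, mul_assoc (g * a * g⁻¹), ← hb a⁻¹]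
      group)
    haveI : Group.IsSolvable (Subgroup.center G) :=
      Group.isSolvable_of_comm (fun a b => Subtype.ext ((Subgroup.mem_center_iff.1 b.2 a.1)))
    rw [Subgroup.mem_center_iff]
    intro h
    have h1 : ψ h = 1 := hom_apply_eq_one ψ hperf h
    have h2 : g * h * g⁻¹ * h⁻¹ = 1 := congrArg Subtype.val h1
    have h3 : g * h = h * g := by
      have := congrArg (fun z => z * h * g) h2
      simpa [mul_assoc] using this
    exact h3.symm
  · intro g hg
    rw [Subgroup.mem_comap, Subgroup.mem_center_iff]
    intro h
    obtain ⟨h', rfl⟩ := hπ h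
    rw [← map_mul, ← map_mul, Subgroup.mem_center_iff.1 hg h']

/-- A central extension `π : G → H` of a perfect group induces `G / Z(G) ≃* H / Z(H)`. -/
noncomputable def centerQuotientEquiv {H : Type*} [Group H] (π : G →* H)
    (hπ : Function.Surjective π) (hperf : commutator G = ⊤) (hker : π.ker ≤ Subgroup.center G) :
    G ⧸ Subgroup.center G ≃* H ⧸ Subgroup.center H :=
  let f : G →* H ⧸ Subgroup.center H := (QuotientGroup.mk' (Subgroup.center H)).comp π
  have hf : Function.Surjective f := (QuotientGroup.mk'_surjective _).comp hπ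
  have hk : Subgroup.center G = f.ker := by
    rw [← comap_center_eq π hπ hperf hker]
    change _ = ((QuotientGroup.mk' (Subgroup.center H)).comp π).ker
    rw [← MonoidHom.comap_ker, QuotientGroup.ker_mk']
  (QuotientGroup.quotientMulEquivOfEq hk).trans (QuotientGroup.quotientKerEquivOfSurjective f hf)

/-- In a perfect group with simple central quotient, a normal subgroup is central or everything. -/
theorem normal_le_center_or_eq_top (hperf : commutator G = ⊤)
    [IsSimpleGroup (G ⧸ Subgroup.center G)] (K : Subgroup G) [hK : K.Normal] :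
    K ≤ Subgroup.center G ∨ K = ⊤ := by
  have hKn : (K.map (QuotientGroup.mk' (Subgroup.center G))).Normal :=
    Subgroup.Normal.map hK _ (QuotientGroup.mk'_surjective _)
  rcases hKn.eq_bot_or_eq_top with h | h
  · left
    intro g hg
    have h1 : (QuotientGroup.mk' (Subgroup.center G) g) ∈
        K.map (QuotientGroup.mk' (Subgroup.center G)) := Subgroup.mem_map_of_mem _ hg
    rw [h, Subgroup.mem_bot] at h1
    exact (QuotientGroup.eq_one_iff g).1 h1
  · right
    have hrep : ∀ g : G, ∃ z ∈ Subgroup.center G, (g : G ⧸ K) = (z : G ⧸ K) := by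
      intro g
      have h1 : (QuotientGroup.mk' (Subgroup.center G) g) ∈
          K.map (QuotientGroup.mk' (Subgroup.center G)) := by rw [h]; trivial
      obtain ⟨k, hk, hkg⟩ := h1
      have h2 : k⁻¹ * g ∈ Subgroup.center G := QuotientGroup.eq.1 hkg
      refine ⟨k⁻¹ * g, h2, ?_⟩
      rw [QuotientGroup.eq]
      have : g⁻¹ * (k⁻¹ * g) = (g⁻¹ * k⁻¹ * g) := by group
      rw [this]
      have h3 := hK.conj_mem k⁻¹ (K.inv_mem hk) g⁻¹
      simpa using h3
    have hab : ∀ a b : G ⧸ K, a * b = b * a := by
      intro a b
      obtain ⟨g1, rfl⟩ := QuotientGroup.mk_surjective a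
      obtain ⟨g2, rfl⟩ := QuotientGroup.mk_surjective b
      obtain ⟨z1, hz1, e1⟩ := hrep g1
      obtain ⟨z2, hz2, e2⟩ := hrep g2
      rw [e1, e2, ← QuotientGroup.mk_mul, ← QuotientGroup.mk_mul,
        Subgroup.mem_center_iff.1 hz1 z2]
    letI : CommGroup (G ⧸ K) := { (inferInstance : Group (G ⧸ K)) with mul_comm := hab }
    have h5 := Abelianization.commutator_subset_ker (QuotientGroup.mk' K)
    rw [QuotientGroup.ker_mk', hperf] at h5
    exact top_le_iff.1 h5

/-- Groups of order `2` or `4` are commutative. -/
theorem comm_of_card_two_or_four {H : Type*} [Group H] (h : Nat.card H = 2 ∨ Nat.card H = 4) :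
    ∀ a b : H, a * b = b * a := by
  rcases h with h | h
  · haveI : Fact (Nat.Prime 2) := ⟨Nat.prime_two⟩
    haveI := isCyclic_of_prime_card h
    intro a b
    exact (IsCyclic.commGroup (α := H)).mul_comm a b
  · haveI : Fact (Nat.Prime 2) := ⟨Nat.prime_two⟩
    exact (IsPGroup.isMulCommutative_of_card_eq_prime_sq (p := 2) (by rw [h]; norm_num)).is_comm.comm

end Cfsg.Agent.Lead.PerfectIndex
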