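import Mathlib
import Cfsg.Prelude.Def_Classical
import Cfsg.Agent.Lib.Helper14.IsomTransfer

/-!
# The Klein correspondence `SL_4(F) → O⁺_6(F)`

`SL_4(F)` acts on alternating `4 × 4` matrices by `B ↦ g B gᵀ`, preserving the Pfaffian, which in
Plücker coordinates is the hyperbolic quadratic form `quadFormPlus 3 F`.
-/

set_option autoImplicit false
set_option linter.unusedSectionVars false
set_option linter.unusedSimpArgs false

namespace Cfsg.Agent.Lead.Klein

open Matrix

variable {F : Type*} [Field F]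

/-- The index type of the 6-dimensional space. -/
abbrev I := Fin 3 ⊕ Fin 3

/-- The alternating matrix with Plücker coordinates `v`. -/
def Bm (v : I → F) : Matrix (Fin 4) (Fin 4) F :=
  !![0, v (.inl 0), v (.inl 1), v (.inl 2);
     -v (.inl 0), 0, v (.inr 2), -v (.inr 1);
     -v (.inl 1), -v (.inr 2), 0, v (.inr 0);
     -v (.inl 2), v (.inr 1), -v (.inr 0), 0]

/-- The Plücker coordinates of a matrix. -/
def coords (A : Matrix (Fin 4) (Fin 4) F) : I → F :=
  Sum.elim ![A 0 1, A 0 2, A 0 3] ![A 2 3, A 3 1, A 1 2]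

theorem coords_Bm (v : I → F) : coords (Bm v) = v := by
  funext i
  rcases i with i | i <;> fin_cases i <;> simp [coords, Bm]

theorem det_fin_four (A : Matrix (Fin 4) (Fin 4) F) :
    det A =
      A 0 0 * (A 1 1 * A 2 2 * A 3 3 - A 1 1 * A 2 3 * A 3 2 - A 1 2 * A 2 1 * A 3 3
        + A 1 2 * A 2 3 * A 3 1 + A 1 3 * A 2 1 * A 3 2 - A 1 3 * A 2 2 * A 3 1)
      - A 0 1 * (A 1 0 * A 2 2 * A 3 3 - A 1 0 * A 2 3 * A 3 2 - A 1 2 * A 2 0 * A 3 3
        + A 1 2 * A 2 3 * A 3 0 + A 1 3 * A 2 0 * A 3 2 - A 1 3 * A 2 2 * A 3 0)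
      + A 0 2 * (A 1 0 * A 2 1 * A 3 3 - A 1 0 * A 2 3 * A 3 1 - A 1 1 * A 2 0 * A 3 3
        + A 1 1 * A 2 3 * A 3 0 + A 1 3 * A 2 0 * A 3 1 - A 1 3 * A 2 1 * A 3 0)
      - A 0 3 * (A 1 0 * A 2 1 * A 3 2 - A 1 0 * A 2 2 * A 3 1 - A 1 1 * A 2 0 * A 3 2
        + A 1 1 * A 2 2 * A 3 0 + A 1 2 * A 2 0 * A 3 1 - A 1 2 * A 2 1 * A 3 0) := by
  rw [Matrix.det_succ_row_zero]
  simp only [Fin.sum_univ_succ, Fin.sum_univ_zero, Matrix.det_fin_three, Matrix.submatrix_apply]
  simp [Fin.succAbove]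
  ring

/-- The Pfaffian identity: `Pf (g B gᵀ) = det g * Pf B`, in Plücker coordinates. -/
theorem quad_conj (g : Matrix (Fin 4) (Fin 4) F) (v : I → F) :
    Cfsg.quadFormPlus 3 F (coords (g * Bm v * gᵀ)) = det g * Cfsg.quadFormPlus 3 F v := by
  rw [det_fin_four]
  unfold Cfsg.quadFormPlus coords Bm
  simp only [Fin.sum_univ_three, Sum.elim_inl, Sum.elim_inr, Matrix.mul_apply, Fin.sum_univ_four,
    Matrix.transpose_apply, Matrix.of_apply, Matrix.cons_val', Matrix.cons_val_zero,
    Matrix.cons_val_one, Matrix.cons_val_two, Matrix.cons_val_three, Matrix.empty_val',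
    Matrix.cons_val_fin_one, Matrix.head_cons, Matrix.head_fin_const]
  simp
  ring

/-- `g B gᵀ` is again alternating, hence determined by its Plücker coordinates. -/
theorem Bm_coords_conj (g : Matrix (Fin 4) (Fin 4) F) (v : I → F) :
    Bm (coords (g * Bm v * gᵀ)) = g * Bm v * gᵀ := by
  ext i j
  fin_cases i <;> fin_cases j <;>
  · unfold coords Bm
    simp only [Fin.sum_univ_three, Sum.elim_inl, Sum.elim_inr, Matrix.mul_apply, Fin.sum_univ_four,
      Matrix.transpose_apply, Matrix.of_apply, Matrix.cons_val', Matrix.cons_val_zero,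
      Matrix.cons_val_one, Matrix.cons_val_two, Matrix.cons_val_three, Matrix.empty_val',
      Matrix.cons_val_fin_one, Matrix.head_cons, Matrix.head_fin_const]
    simp
    try ring

theorem Bm_add (v w : I → F) : Bm (v + w) = Bm v + Bm w := by
  ext i j
  fin_cases i <;> fin_cases j <;> simp [Bm] <;> ring

theorem Bm_smul (c : F) (v : I → F) : Bm (c • v) = c • Bm v := by
  ext i j
  fin_cases i <;> fin_cases j <;> simp [Bm]

theorem coords_add (A B : Matrix (Fin 4) (Fin 4) F) : coords (A + B) = coords A + coords B := by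
  funext i
  rcases i with i | i <;> fin_cases i <;> simp [coords]

theorem coords_smul (c : F) (A : Matrix (Fin 4) (Fin 4) F) : coords (c • A) = c • coords A := by
  funext i
  rcases i with i | i <;> fin_cases i <;> simp [coords]

/-- The action of `g` on Plücker coordinates, as a linear map. -/
def kL (g : Matrix (Fin 4) (Fin 4) F) : (I → F) →ₗ[F] (I → F) where
  toFun v := coords (g * Bm v * gᵀ)
  map_add' v w := by
    rw [Bm_add, Matrix.mul_add, Matrix.add_mul, coords_add]
  map_smul' c v := by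
    rw [Bm_smul, Matrix.mul_smul, Matrix.smul_mul, coords_smul, RingHom.id_apply]

theorem kL_apply (g : Matrix (Fin 4) (Fin 4) F) (v : I → F) :
    kL g v = coords (g * Bm v * gᵀ) := rfl

theorem kL_one : kL (1 : Matrix (Fin 4) (Fin 4) F) = LinearMap.id := by
  apply LinearMap.ext
  intro v
  rw [kL_apply, Matrix.one_mul, Matrix.transpose_one, Matrix.mul_one, coords_Bm]
  rfl

theorem kL_mul (g h : Matrix (Fin 4) (Fin 4) F) : kL (g * h) = (kL g).comp (kL h) := by
  apply LinearMap.ext
  intro v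
  rw [LinearMap.comp_apply, kL_apply, kL_apply, kL_apply, Bm_coords_conj, Matrix.transpose_mul]
  simp only [Matrix.mul_assoc]

/-- The matrix of the action on Plücker coordinates. -/
noncomputable def kmat (g : Matrix (Fin 4) (Fin 4) F) : Matrix I I F := LinearMap.toMatrix' (kL g)

theorem kmat_mulVec (g : Matrix (Fin 4) (Fin 4) F) (v : I → F) :
    kmat g *ᵥ v = coords (g * Bm v * gᵀ) := by
  unfold kmat
  rw [LinearMap.toMatrix'_mulVec, kL_apply]

/-- `kmat` as a monoid homomorphism. -/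
noncomputable def kHom : Matrix (Fin 4) (Fin 4) F →* Matrix I I F where
  toFun := kmat
  map_one' := by
    unfold kmat
    rw [kL_one, LinearMap.toMatrix'_id]
  map_mul' g h := by
    unfold kmat
    rw [kL_mul, LinearMap.toMatrix'_comp]

/-- The Klein homomorphism `SL_4(F) → GL_6(F)`. -/
noncomputable def toGL : Matrix.SpecialLinearGroup (Fin 4) F →* Matrix.GeneralLinearGroup I F :=
  (kHom.comp (Cfsg.slToMat 4 F)).toHomUnits

theorem toGL_coe (g : Matrix.SpecialLinearGroup (Fin 4) F) :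
    ((toGL g : Matrix.GeneralLinearGroup I F) : Matrix I I F) =
      kmat (g : Matrix (Fin 4) (Fin 4) F) := rfl

theorem toGL_mem (g : Matrix.SpecialLinearGroup (Fin 4) F) :
    toGL g ∈ Cfsg.isometryGroup F (Cfsg.quadFormPlus 3 F) := by
  rw [Cfsg.Agent.Helper14.mem_isometryGroup_iff]
  intro u
  rw [toGL_coe, kmat_mulVec, quad_conj, g.2, one_mul]

/-- The Klein homomorphism `SL_4(F) → O⁺_6(F)`. -/
noncomputable def toO : Matrix.SpecialLinearGroup (Fin 4) F →*
    Cfsg.isometryGroup F (Cfsg.quadFormPlus 3 F) :=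
  toGL.codRestrict _ toGL_mem

/-- A transvection. -/
def tv : Matrix.SpecialLinearGroup (Fin 4) F :=
  ⟨Matrix.transvection 0 1 1, Matrix.det_transvection_of_ne 0 1 (by decide) 1⟩

theorem toO_tv_ne : toO (tv : Matrix.SpecialLinearGroup (Fin 4) F) ≠ 1 := by
  intro h
  have h1 : toGL (tv : Matrix.SpecialLinearGroup (Fin 4) F) = 1 := congrArg Subtype.val h
  have h2 : kmat ((tv : Matrix.SpecialLinearGroup (Fin 4) F) : Matrix (Fin 4) (Fin 4) F) = 1 := by
    rw [← toGL_coe, h1]
    rfl
  have h3 := congrFun (congrArg (fun M => M *ᵥ (Pi.single (Sum.inr 2) 1 : I → F)) h2) (Sum.inl 1)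
  simp only [kmat_mulVec, Matrix.one_mulVec] at h3
  unfold coords Bm tv at h3
  simp [Matrix.mul_apply, Fin.sum_univ_four, Matrix.transvection, Matrix.single_apply,
    Matrix.one_apply] at h3

end Cfsg.Agent.Lead.Klein
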