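import Mathlib
import Cfsg.Agent.Lib.Lead.Klein
import Cfsg.Agent.Lib.Lead.PerfectIndex
import Cfsg.Agent.Lib.Helper5.SLCard
import Cfsg.Agent.Lib.Helper5.PSL
import Cfsg.Agent.S0287

/-!
# `Ω⁺_6(q)` is the image of the Klein homomorphism, and `PΩ⁺_6(q) ≅ PSL_4(q)`
-/

set_option autoImplicit false
set_option linter.style.haveILetI false
set_option linter.unusedSimpArgs false

namespace Cfsg.Agent.Lead.KleinOmega

open Matrix Cfsg.Agent.Lead Cfsg.Agent.Helper5 Cfsg.Agent.Lead.PerfectIndex

variable {F : Type*} [Field F]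

theorem perfG : commutator (Matrix.SpecialLinearGroup (Fin 4) F) = ⊤ :=
  commutator_SL_eq_top (by simp)

instance : IsSimpleGroup (Matrix.SpecialLinearGroup (Fin 4) F ⧸
    Subgroup.center (Matrix.SpecialLinearGroup (Fin 4) F)) :=
  psl_isSimpleGroup (ι := Fin 4) (F := F) (by simp)

theorem ker_le_center :
    (Klein.toO (F := F)).ker ≤ Subgroup.center (Matrix.SpecialLinearGroup (Fin 4) F) := by
  rcases normal_le_center_or_eq_top perfG (Klein.toO (F := F)).ker with h | h
  · exact h
  · exfalso
    apply Klein.toO_tv_ne (F := F)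
    have : (Klein.tv : Matrix.SpecialLinearGroup (Fin 4) F) ∈ (Klein.toO (F := F)).ker := by
      rw [h]; trivial
    exact MonoidHom.mem_ker.1 this

/-- Elements of the kernel are `± 1`. -/
theorem ker_entry (g : Matrix.SpecialLinearGroup (Fin 4) F) (hg : g ∈ (Klein.toO (F := F)).ker) :
    ∃ r : F, (r = 1 ∨ r = -1) ∧ Matrix.scalar (Fin 4) r = (g : Matrix (Fin 4) (Fin 4) F) := by
  obtain ⟨r, -, hr⟩ := Matrix.SpecialLinearGroup.mem_center_iff.1 (ker_le_center hg)
  refine ⟨r, ?_, hr⟩
  have h1 : Klein.toO g = 1 := MonoidHom.mem_ker.1 hg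
  have h2 : Klein.toGL g = 1 := congrArg Subtype.val h1
  have h3 : Klein.kmat (g : Matrix (Fin 4) (Fin 4) F) = 1 := by
    rw [← Klein.toGL_coe, h2]; rfl
  have h4 := congrFun (congrArg (fun M => M *ᵥ (Pi.single (Sum.inl 0) 1 : Klein.I → F)) h3)
    (Sum.inl 0)
  simp only [Klein.kmat_mulVec, Matrix.one_mulVec] at h4
  rw [← hr] at h4
  unfold Klein.coords Klein.Bm at h4
  simp [Matrix.mul_apply, Fin.sum_univ_four, Matrix.scalar_apply, Matrix.diagonal_apply] at h4
  have h5 : (r - 1) * (r + 1) = 0 := by linear_combination h4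
  rcases mul_eq_zero.1 h5 with h | h
  · left; exact sub_eq_zero.1 h
  · right; exact eq_neg_of_add_eq_zero_left h

theorem card_ker [Fintype F] : Nat.card (Klein.toO (F := F)).ker = 1 ∨
    Nat.card (Klein.toO (F := F)).ker = 2 := by
  classical
  have hle : Nat.card (Klein.toO (F := F)).ker ≤ 2 := by
    let f : (Klein.toO (F := F)).ker → (({1, -1} : Finset F) : Set F) := fun g =>
      ⟨(g.1 : Matrix (Fin 4) (Fin 4) F) 0 0, by
        obtain ⟨r, hr, h⟩ := ker_entry g.1 g.2
        rw [← h]
        simp only [Matrix.scalar_apply, Matrix.diagonal_apply_eq, Finset.coe_insert,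
          Finset.coe_singleton, Set.mem_insert_iff, Set.mem_singleton_iff]
        exact hr⟩
    have hf : Function.Injective f := by
      intro a b hab
      have h0 : (a.1 : Matrix (Fin 4) (Fin 4) F) 0 0 = (b.1 : Matrix (Fin 4) (Fin 4) F) 0 0 :=
        congrArg Subtype.val hab
      obtain ⟨r, -, hr⟩ := ker_entry a.1 a.2
      obtain ⟨t, -, ht⟩ := ker_entry b.1 b.2
      apply Subtype.ext
      apply Subtype.ext
      rw [← hr, ← ht] at h0 ⊢
      simp only [Matrix.scalar_apply, Matrix.diagonal_apply_eq] at h0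
      rw [h0]
    have h1 := Nat.card_le_card_of_injective f hf
    have h2 : Nat.card (({1, -1} : Finset F) : Set F) ≤ 2 := by
      rw [Nat.card_eq_fintype_card]
      have : Fintype.card (({1, -1} : Finset F) : Set F) = ({1, -1} : Finset F).card := by
        simp
      rw [this]
      exact Finset.card_le_two
    exact h1.trans h2
  have hpos : 0 < Nat.card (Klein.toO (F := F)).ker := Nat.card_pos
  omega

theorem card_O6_eq [Fintype F] : Nat.card (Cfsg.isometryGroup F (Cfsg.quadFormPlus 3 F)) =
    2 * Nat.card (Matrix.SpecialLinearGroup (Fin 4) F) := by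
  have hq : 2 ≤ Fintype.card F := Fintype.one_lt_card
  set q := Fintype.card F with hqdef
  have h1 := Cfsg.Agent.S0287.result (F := F) (q := q) rfl 3 (by norm_num)
  have h2 := card_SL_mul (F := F) (q := q) rfl 4 (by norm_num)
  simp only [Finset.prod_range_succ, Finset.prod_range_zero, Fin.prod_univ_succ,
    Fin.prod_univ_zero] at h1 h2
  simp at h1 h2
  have hq1 : 0 < q - 1 := by omega
  apply Nat.eq_of_mul_eq_mul_right hq1
  rw [h1]
  have h2' : 2 * Nat.card (Matrix.SpecialLinearGroup (Fin 4) F) * (q - 1) =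
      2 * (Nat.card (Matrix.SpecialLinearGroup (Fin 4) F) * (q - 1)) := by ring
  rw [h2', h2]
  have e1 : q ^ 4 - q = q * (q ^ 3 - 1) := by
    rw [Nat.mul_sub, mul_one]; ring_nf
  have e2 : q ^ 4 - q ^ 2 = q ^ 2 * (q ^ 2 - 1) := by
    rw [Nat.mul_sub, mul_one]; ring_nf
  have e3 : q ^ 4 - q ^ 3 = q ^ 3 * (q - 1) := by
    rw [Nat.mul_sub, mul_one]; ring_nf
  rw [e1, e2, e3]
  ring

/-- The index of the image of the Klein homomorphism is `2 |ker|`. -/
theorem index_range [Fintype F] :
    (Klein.toO (F := F)).range.index = 2 * Nat.card (Klein.toO (F := F)).ker := by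
  have h1 := Subgroup.card_mul_index (Klein.toO (F := F)).range
  have h2 : Nat.card (Klein.toO (F := F)).range * Nat.card (Klein.toO (F := F)).ker =
      Nat.card (Matrix.SpecialLinearGroup (Fin 4) F) := by
    rw [← Nat.card_congr (QuotientGroup.quotientKerEquivRange (Klein.toO (F := F))).toEquiv]
    exact (Subgroup.card_eq_card_quotient_mul_card_subgroup _).symm
  rw [card_O6_eq, ← h2] at h1
  have hpos : 0 < Nat.card (Klein.toO (F := F)).range := Nat.card_pos
  apply Nat.eq_of_mul_eq_mul_left hpos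
  rw [h1]; ring

theorem range_perfect : commutator (Klein.toO (F := F)).range = ⊤ :=
  commutator_range_eq_top _ perfG

instance range_normal [Fintype F] : (Klein.toO (F := F)).range.Normal := by
  apply normal_of_index_le_four _ range_perfect
  · rw [index_range]
    rcases card_ker (F := F) with h | h <;> rw [h] <;> norm_num
  · rw [index_range]
    rcases card_ker (F := F) with h | h <;> rw [h] <;> norm_num

/-- `Ω⁺_6(F)` is the image of the Klein homomorphism. -/
theorem omega_eq_range [Fintype F] :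
    Cfsg.Omega F (Cfsg.quadFormPlus 3 F) = (Klein.toO (F := F)).range := by
  unfold Cfsg.Omega
  apply commutator_eq_of_perfect_normal _ range_perfect
  apply comm_of_card_two_or_four
  have h : Nat.card (Cfsg.isometryGroup F (Cfsg.quadFormPlus 3 F) ⧸ (Klein.toO (F := F)).range) =
      (Klein.toO (F := F)).range.index := rfl
  rw [h, index_range]
  rcases card_ker (F := F) with h | h <;> rw [h] <;> norm_num

/-- The Klein homomorphism onto `Ω⁺_6(F)`. -/
noncomputable def toOmega [Fintype F] : Matrix.SpecialLinearGroup (Fin 4) F →*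
    Cfsg.Omega F (Cfsg.quadFormPlus 3 F) :=
  (Klein.toO (F := F)).codRestrict _ (fun g => by rw [omega_eq_range]; exact ⟨g, rfl⟩)

theorem toOmega_surjective [Fintype F] : Function.Surjective (toOmega (F := F)) := by
  rintro ⟨x, hx⟩
  rw [omega_eq_range] at hx
  obtain ⟨g, rfl⟩ := hx
  exact ⟨g, rfl⟩

theorem toOmega_ker [Fintype F] : (toOmega (F := F)).ker = (Klein.toO (F := F)).ker := by
  ext g
  rw [MonoidHom.mem_ker, MonoidHom.mem_ker]
  constructor
  · intro h
    exact congrArg Subtype.val h
  · intro h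
    exact Subtype.ext h

/-- `PSL_4(F) ≃* PΩ⁺_6(F)`. -/
noncomputable def pslEquivPOmega [Fintype F] :
    Matrix.ProjectiveSpecialLinearGroup (Fin 4) F ≃* Cfsg.POmega F (Cfsg.quadFormPlus 3 F) :=
  centerQuotientEquiv toOmega toOmega_surjective perfG (by rw [toOmega_ker]; exact ker_le_center)

end Cfsg.Agent.Lead.KleinOmega
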