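import Mathlib
import Cfsg.Agent.Lib.Lead.KleinOmega
import Cfsg.Agent.Lib.Lead.SpCard
import Cfsg.Agent.S0269
import Cfsg.Agent.S0286

/-!
# `Sp_4(F) → O_5(F)` via the Klein correspondence, and `PΩ_5(q) ≅ PSp_4(q)` for `q` odd

`Sp_4(F) ≤ SL_4(F)` fixes the Plücker vector `jv` of the symplectic form `J`, hence acts on its
orthogonal complement, on which the Klein quadric restricts to `quadFormOdd 2 F`.
-/

set_option autoImplicit false
set_option linter.style.haveILetI false
set_option linter.unusedSimpArgs false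
set_option linter.unusedSectionVars false

namespace Cfsg.Agent.Lead.KleinSp

open Matrix Cfsg.Agent.Lead Cfsg.Agent.Lead.PerfectIndex

variable {F : Type*} [Field F]

/-- The reindexing `Fin 2 ⊕ Fin 2 ≃ Fin 4`. -/
abbrev e4 : Fin 2 ⊕ Fin 2 ≃ Fin 4 := finSumFinEquiv

/-- Plücker vector of the symplectic form. -/
def jv : Klein.I → F := Sum.elim ![0, -1, 0] ![0, 1, 0]

theorem J_submatrix : (Matrix.J (Fin 2) F).submatrix e4.symm e4.symm = Klein.Bm (jv : Klein.I → F) := by
  ext i j
  fin_cases i <;> fin_cases j <;>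
    simp [Matrix.J, Klein.Bm, jv, e4, finSumFinEquiv, Fin.addCases, Matrix.fromBlocks, Matrix.one_apply]

/-- The underlying `4 × 4` matrix of a symplectic matrix. -/
def sig (g : Matrix.symplecticGroup (Fin 2) F) : Matrix (Fin 4) (Fin 4) F :=
  (g : Matrix (Fin 2 ⊕ Fin 2) (Fin 2 ⊕ Fin 2) F).submatrix e4.symm e4.symm

theorem sig_one : sig (1 : Matrix.symplecticGroup (Fin 2) F) = 1 := by
  unfold sig
  simp

theorem sig_mul (g h : Matrix.symplecticGroup (Fin 2) F) : sig (g * h) = sig g * sig h := by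
  unfold sig
  rw [Matrix.submatrix_mul_equiv]
  rfl

theorem sig_injective : Function.Injective (sig (F := F)) := by
  intro g h hgh
  apply Subtype.ext
  ext i j
  have := congrFun (congrFun hgh (e4 i)) (e4 j)
  simpa [sig] using this

theorem sig_conj (g : Matrix.symplecticGroup (Fin 2) F) :
    sig g * Klein.Bm (jv : Klein.I → F) * (sig g)ᵀ = Klein.Bm jv := by
  have h := (SymplecticGroup.mem_iff.1 g.2)
  calc sig g * Klein.Bm (jv : Klein.I → F) * (sig g)ᵀ
      = ((g : Matrix (Fin 2 ⊕ Fin 2) (Fin 2 ⊕ Fin 2) F) * Matrix.J (Fin 2) F *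
          (g : Matrix (Fin 2 ⊕ Fin 2) (Fin 2 ⊕ Fin 2) F)ᵀ).submatrix e4.symm e4.symm := by
        rw [← J_submatrix]
        unfold sig
        rw [Matrix.transpose_submatrix, Matrix.submatrix_mul_equiv, Matrix.submatrix_mul_equiv]
    _ = Klein.Bm jv := by rw [h, J_submatrix]

theorem Q_jv : Cfsg.quadFormPlus 3 F (jv : Klein.I → F) = -1 := by
  unfold Cfsg.quadFormPlus jv
  simp [Fin.sum_univ_three]

theorem det_sig (g : Matrix.symplecticGroup (Fin 2) F) : det (sig g) = 1 := by
  have h := Klein.quad_conj (sig g) (jv : Klein.I → F)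
  rw [sig_conj, Klein.coords_Bm, Q_jv] at h
  have : det (sig g) * (-1) = (-1 : F) := h.symm
  linear_combination (-1 : F) * this

/-- `Sp_4(F) → SL_4(F)`. -/
def sigSL : Matrix.symplecticGroup (Fin 2) F →* Matrix.SpecialLinearGroup (Fin 4) F where
  toFun g := ⟨sig g, det_sig g⟩
  map_one' := Subtype.ext sig_one
  map_mul' g h := Subtype.ext (sig_mul g h)

theorem sigSL_coe (g : Matrix.symplecticGroup (Fin 2) F) :
    ((sigSL g : Matrix.SpecialLinearGroup (Fin 4) F) : Matrix (Fin 4) (Fin 4) F) = sig g := rfl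

theorem sigSL_injective : Function.Injective (sigSL (F := F)) := by
  intro g h hgh
  exact sig_injective (congrArg Subtype.val hgh)

theorem kL_jv (g : Matrix.symplecticGroup (Fin 2) F) : Klein.kL (sig g) (jv : Klein.I → F) = jv := by
  rw [Klein.kL_apply, sig_conj, Klein.coords_Bm]

theorem Q_kL (g : Matrix.symplecticGroup (Fin 2) F) (x : Klein.I → F) :
    Cfsg.quadFormPlus 3 F (Klein.kL (sig g) x) = Cfsg.quadFormPlus 3 F x := by
  rw [Klein.kL_apply, Klein.quad_conj, det_sig, one_mul]

/-- The linear functional `B(·, jv)`. -/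
def lam (x : Klein.I → F) : F := x (.inl 1) - x (.inr 1)

theorem polar_jv (x : Klein.I → F) :
    Cfsg.quadFormPlus 3 F (x + jv) = Cfsg.quadFormPlus 3 F x + lam x - 1 := by
  unfold Cfsg.quadFormPlus jv lam
  simp [Fin.sum_univ_three]
  ring

theorem lam_kL (g : Matrix.symplecticGroup (Fin 2) F) (x : Klein.I → F) :
    lam (Klein.kL (sig g) x) = lam x := by
  have h1 := polar_jv (Klein.kL (sig g) x)
  have h2 := polar_jv x
  have h3 : Klein.kL (sig g) x + jv = Klein.kL (sig g) (x + jv) := by
    rw [map_add, kL_jv]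
  rw [h3, Q_kL, Q_kL] at h1
  linear_combination h2 - h1

/-- The index type of the 5-dimensional space. -/
abbrev J5 := Unit ⊕ (Fin 2 ⊕ Fin 2)

/-- The embedding of the 5-space as `jv^⊥`. -/
def PL : (J5 → F) →ₗ[F] (Klein.I → F) where
  toFun w := Sum.elim ![w (.inr (.inl 0)), w (.inl ()), w (.inr (.inl 1))]
    ![w (.inr (.inr 0)), w (.inl ()), w (.inr (.inr 1))]
  map_add' v w := by
    funext i
    rcases i with i | i <;> fin_cases i <;> simp
  map_smul' c v := by
    funext i
    rcases i with i | i <;> fin_cases i <;> simp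

/-- A retraction onto the 5-space. -/
def RL : (Klein.I → F) →ₗ[F] (J5 → F) where
  toFun x := Sum.elim (fun _ => x (.inl 1)) (Sum.elim ![x (.inl 0), x (.inl 2)] ![x (.inr 0), x (.inr 2)])
  map_add' v w := by
    funext i
    rcases i with i | i | i
    · simp
    · fin_cases i <;> simp
    · fin_cases i <;> simp
  map_smul' c v := by
    funext i
    rcases i with i | i | i
    · simp
    · fin_cases i <;> simp
    · fin_cases i <;> simp

theorem RL_PL (w : J5 → F) : RL (PL w) = w := by
  funext i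
  rcases i with i | i | i
  · rfl
  · fin_cases i <;> rfl
  · fin_cases i <;> rfl

theorem PL_RL (x : Klein.I → F) (hx : lam x = 0) : PL (RL x) = x := by
  have h : x (.inl 1) = x (.inr 1) := sub_eq_zero.1 hx
  funext i
  rcases i with i | i <;> fin_cases i
  · rfl
  · rfl
  · rfl
  · rfl
  · exact h
  · rfl

theorem lam_PL (w : J5 → F) : lam (PL w) = 0 := by
  unfold lam
  exact sub_self _

theorem Q_PL (w : J5 → F) : Cfsg.quadFormPlus 3 F (PL w) = Cfsg.quadFormOdd 2 F w := by
  unfold Cfsg.quadFormPlus Cfsg.quadFormOdd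
  simp only [Fin.sum_univ_three, Fin.sum_univ_two]
  show w (.inr (.inl 0)) * w (.inr (.inr 0)) + w (.inl ()) * w (.inl ()) +
    w (.inr (.inl 1)) * w (.inr (.inr 1)) = _
  ring

/-- The action of `Sp_4` on the 5-space as a linear map. -/
def m5L (g : Matrix.symplecticGroup (Fin 2) F) : (J5 → F) →ₗ[F] (J5 → F) :=
  RL.comp ((Klein.kL (sig g)).comp PL)

theorem m5L_apply (g : Matrix.symplecticGroup (Fin 2) F) (w : J5 → F) :
    m5L g w = RL (Klein.kL (sig g) (PL w)) := rfl

theorem PL_m5L (g : Matrix.symplecticGroup (Fin 2) F) (w : J5 → F) :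
    PL (m5L g w) = Klein.kL (sig g) (PL w) := by
  rw [m5L_apply, PL_RL]
  rw [lam_kL, lam_PL]

theorem m5L_one : m5L (1 : Matrix.symplecticGroup (Fin 2) F) = LinearMap.id := by
  apply LinearMap.ext
  intro w
  rw [m5L_apply, sig_one, Klein.kL_one, LinearMap.id_apply, RL_PL]
  rfl

theorem m5L_mul (g h : Matrix.symplecticGroup (Fin 2) F) :
    m5L (g * h) = (m5L g).comp (m5L h) := by
  apply LinearMap.ext
  intro w
  rw [LinearMap.comp_apply, m5L_apply, m5L_apply, PL_m5L, sig_mul, Klein.kL_mul,
    LinearMap.comp_apply]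

theorem Q_m5L (g : Matrix.symplecticGroup (Fin 2) F) (w : J5 → F) :
    Cfsg.quadFormOdd 2 F (m5L g w) = Cfsg.quadFormOdd 2 F w := by
  rw [← Q_PL, PL_m5L, Q_kL, Q_PL]

/-- The matrix of the action on the 5-space. -/
noncomputable def m5 : Matrix.symplecticGroup (Fin 2) F →* Matrix J5 J5 F where
  toFun g := LinearMap.toMatrix' (m5L g)
  map_one' := by
    rw [m5L_one, LinearMap.toMatrix'_id]
  map_mul' g h := by
    rw [m5L_mul, LinearMap.toMatrix'_comp]

theorem m5_mulVec (g : Matrix.symplecticGroup (Fin 2) F) (w : J5 → F) :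
    m5 g *ᵥ w = m5L g w := by
  show LinearMap.toMatrix' (m5L g) *ᵥ w = _
  rw [LinearMap.toMatrix'_mulVec]

/-- `Sp_4(F) → GL_5(F)`. -/
noncomputable def toGL5 : Matrix.symplecticGroup (Fin 2) F →* Matrix.GeneralLinearGroup J5 F :=
  (m5 (F := F)).toHomUnits

theorem toGL5_coe (g : Matrix.symplecticGroup (Fin 2) F) :
    ((toGL5 g : Matrix.GeneralLinearGroup J5 F) : Matrix J5 J5 F) = m5 g := rfl

theorem toGL5_mem (g : Matrix.symplecticGroup (Fin 2) F) :
    toGL5 g ∈ Cfsg.isometryGroup F (Cfsg.quadFormOdd 2 F) := by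
  rw [Cfsg.Agent.Helper14.mem_isometryGroup_iff]
  intro u
  rw [toGL5_coe, m5_mulVec, Q_m5L]

/-- The homomorphism `Sp_4(F) → O_5(F)`. -/
noncomputable def rho : Matrix.symplecticGroup (Fin 2) F →*
    Cfsg.isometryGroup F (Cfsg.quadFormOdd 2 F) :=
  toGL5.codRestrict _ toGL5_mem

theorem lam_jv : lam (jv : Klein.I → F) = -2 := by
  unfold lam jv
  simp
  norm_num

/-- An element of the kernel of `rho` acts trivially on the whole 6-space. -/
theorem kL_eq_id_of_mem_ker (h2 : (2 : F) ≠ 0) (g : Matrix.symplecticGroup (Fin 2) F)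
    (hg : g ∈ (rho (F := F)).ker) (x : Klein.I → F) : Klein.kL (sig g) x = x := by
  have h1 : rho g = 1 := MonoidHom.mem_ker.1 hg
  have h3 : toGL5 g = 1 := congrArg Subtype.val h1
  have h4 : m5 g = 1 := by
    rw [← toGL5_coe, h3]; rfl
  have h5 : ∀ w : J5 → F, m5L g w = w := by
    intro w
    rw [← m5_mulVec, h4, Matrix.one_mulVec]
  set c : F := -lam x / 2 with hc
  set y : Klein.I → F := x - c • jv with hy
  have hlin : ∀ a b : Klein.I → F, lam (a - b) = lam a - lam b := by
    intro a b; unfold lam; simp only [Pi.sub_apply]; ring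
  have hsm : ∀ (r : F) (a : Klein.I → F), lam (r • a) = r * lam a := by
    intro r a; unfold lam; simp only [Pi.smul_apply, smul_eq_mul]; ring
  have hly : lam y = 0 := by
    rw [hy, hlin, hsm, lam_jv, hc]
    field_simp
    ring
  have hy2 : Klein.kL (sig g) y = y := by
    rw [← PL_RL y hly, ← PL_m5L, h5]
  have hx : x = y + c • jv := by rw [hy]; abel
  rw [hx, map_add, map_smul, hy2, kL_jv]

theorem sigSL_mem_ker (h2 : (2 : F) ≠ 0) (g : Matrix.symplecticGroup (Fin 2) F)
    (hg : g ∈ (rho (F := F)).ker) : sigSL g ∈ (Klein.toO (F := F)).ker := by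
  rw [MonoidHom.mem_ker]
  apply Subtype.ext
  apply Units.ext
  show Klein.kmat (sig g) = 1
  unfold Klein.kmat
  have : Klein.kL (sig g) = LinearMap.id := LinearMap.ext (kL_eq_id_of_mem_ker h2 g hg)
  rw [this, LinearMap.toMatrix'_id]

/-- Elements of the kernel are `± 1`. -/
theorem ker_entry (h2 : (2 : F) ≠ 0) (g : Matrix.symplecticGroup (Fin 2) F)
    (hg : g ∈ (rho (F := F)).ker) :
    ∃ r : F, (r = 1 ∨ r = -1) ∧ Matrix.scalar (Fin 4) r = sig g :=
  KleinOmega.ker_entry (sigSL g) (sigSL_mem_ker h2 g hg)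

theorem ker_le_center (h2 : (2 : F) ≠ 0) :
    (rho (F := F)).ker ≤ Subgroup.center (Matrix.symplecticGroup (Fin 2) F) := by
  intro g hg
  obtain ⟨r, -, hr⟩ := ker_entry h2 g hg
  rw [Subgroup.mem_center_iff]
  intro h
  apply sig_injective
  rw [sig_mul, sig_mul, ← hr]
  exact (Matrix.scalar_commute r (fun _ => Commute.all _ _) (sig h)).symm.eq

theorem card_ker [Fintype F] (h2 : (2 : F) ≠ 0) : Nat.card (rho (F := F)).ker = 1 ∨
    Nat.card (rho (F := F)).ker = 2 := by
  classical
  have hle : Nat.card (rho (F := F)).ker ≤ 2 := by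
    let f : (rho (F := F)).ker → (({1, -1} : Finset F) : Set F) := fun g =>
      ⟨sig g.1 0 0, by
        obtain ⟨r, hr, h⟩ := ker_entry h2 g.1 g.2
        rw [← h]
        simp only [Matrix.scalar_apply, Matrix.diagonal_apply_eq, Finset.coe_insert,
          Finset.coe_singleton, Set.mem_insert_iff, Set.mem_singleton_iff]
        exact hr⟩
    have hf : Function.Injective f := by
      intro a b hab
      have h0 : sig a.1 0 0 = sig b.1 0 0 := congrArg Subtype.val hab
      obtain ⟨r, -, hr⟩ := ker_entry h2 a.1 a.2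
      obtain ⟨t, -, ht⟩ := ker_entry h2 b.1 b.2
      apply Subtype.ext
      apply sig_injective
      rw [← hr, ← ht] at h0 ⊢
      simp only [Matrix.scalar_apply, Matrix.diagonal_apply_eq] at h0
      rw [h0]
    have h1 := Nat.card_le_card_of_injective f hf
    have h3 : Nat.card (({1, -1} : Finset F) : Set F) ≤ 2 := by
      rw [Nat.card_eq_fintype_card]
      have : Fintype.card (({1, -1} : Finset F) : Set F) = ({1, -1} : Finset F).card := by
        simp
      rw [this]
      exact Finset.card_le_two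
    exact h1.trans h3
  have hpos : 0 < Nat.card (rho (F := F)).ker := Nat.card_pos
  omega

theorem card_O5_eq [Fintype F] (hodd : Odd (Fintype.card F)) :
    Nat.card (Cfsg.isometryGroup F (Cfsg.quadFormOdd 2 F)) =
      2 * Nat.card (Matrix.symplecticGroup (Fin 2) F) := by
  have h1 := Cfsg.Agent.S0286.result (F := F) (q := Fintype.card F) rfl hodd 2
  have h3 := card_symplecticGroup (F := F) 2
  rw [Nat.card_eq_fintype_card (α := F)] at h3
  rw [h1, h3]
  ring

theorem perfG [Fintype F] (hodd : Odd (Fintype.card F)) :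
    commutator (Matrix.symplecticGroup (Fin 2) F) = ⊤ := by
  apply Cfsg.Agent.S0269.result
  right; left
  refine ⟨rfl, ?_⟩
  have h1 : 1 < Fintype.card F := Fintype.one_lt_card
  obtain ⟨k, hk⟩ := hodd
  omega

/-- The index of the image of `rho` is `2 |ker|`. -/
theorem index_range [Fintype F] (hodd : Odd (Fintype.card F)) :
    (rho (F := F)).range.index = 2 * Nat.card (rho (F := F)).ker := by
  have h1 := Subgroup.card_mul_index (rho (F := F)).range
  have h2 : Nat.card (rho (F := F)).range * Nat.card (rho (F := F)).ker =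
      Nat.card (Matrix.symplecticGroup (Fin 2) F) := by
    rw [← Nat.card_congr (QuotientGroup.quotientKerEquivRange (rho (F := F))).toEquiv]
    exact (Subgroup.card_eq_card_quotient_mul_card_subgroup _).symm
  rw [card_O5_eq hodd, ← h2] at h1
  have hpos : 0 < Nat.card (rho (F := F)).range := Nat.card_pos
  apply Nat.eq_of_mul_eq_mul_left hpos
  rw [h1]; ring

theorem range_perfect [Fintype F] (hodd : Odd (Fintype.card F)) :
    commutator (rho (F := F)).range = ⊤ :=
  commutator_range_eq_top _ (perfG hodd)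

theorem range_normal [Fintype F] (hodd : Odd (Fintype.card F)) :
    (rho (F := F)).range.Normal := by
  have h2 := Cfsg.Agent.S0286.two_ne_zero_of_odd hodd
  apply normal_of_index_le_four _ (range_perfect hodd)
  · rw [index_range hodd]
    rcases card_ker (F := F) h2 with h | h <;> rw [h] <;> norm_num
  · rw [index_range hodd]
    rcases card_ker (F := F) h2 with h | h <;> rw [h] <;> norm_num

/-- `Ω_5(F)` is the image of `rho`. -/
theorem omega_eq_range [Fintype F] (hodd : Odd (Fintype.card F)) :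
    Cfsg.Omega F (Cfsg.quadFormOdd 2 F) = (rho (F := F)).range := by
  have h2 := Cfsg.Agent.S0286.two_ne_zero_of_odd hodd
  haveI := range_normal hodd
  unfold Cfsg.Omega
  apply commutator_eq_of_perfect_normal _ (range_perfect hodd)
  apply comm_of_card_two_or_four
  have h : Nat.card (Cfsg.isometryGroup F (Cfsg.quadFormOdd 2 F) ⧸ (rho (F := F)).range) =
      (rho (F := F)).range.index := rfl
  rw [h, index_range hodd]
  rcases card_ker (F := F) h2 with h | h <;> rw [h] <;> norm_num

/-- `rho` as a map onto `Ω_5(F)`. -/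
noncomputable def toOmega [Fintype F] (hodd : Odd (Fintype.card F)) :
    Matrix.symplecticGroup (Fin 2) F →* Cfsg.Omega F (Cfsg.quadFormOdd 2 F) :=
  (rho (F := F)).codRestrict _ (fun g => by rw [omega_eq_range hodd]; exact ⟨g, rfl⟩)

theorem toOmega_surjective [Fintype F] (hodd : Odd (Fintype.card F)) :
    Function.Surjective (toOmega (F := F) hodd) := by
  rintro ⟨x, hx⟩
  rw [omega_eq_range hodd] at hx
  obtain ⟨g, rfl⟩ := hx
  exact ⟨g, rfl⟩

theorem toOmega_ker [Fintype F] (hodd : Odd (Fintype.card F)) :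
    (toOmega (F := F) hodd).ker = (rho (F := F)).ker := by
  ext g
  rw [MonoidHom.mem_ker, MonoidHom.mem_ker]
  constructor
  · intro h
    exact congrArg Subtype.val h
  · intro h
    exact Subtype.ext h

/-- `PSp_4(F) ≃* PΩ_5(F)` for `|F|` odd. -/
noncomputable def pspEquivPOmega [Fintype F] (hodd : Odd (Fintype.card F)) :
    Cfsg.PSp 2 F ≃* Cfsg.POmega F (Cfsg.quadFormOdd 2 F) :=
  centerQuotientEquiv (toOmega hodd) (toOmega_surjective hodd) (perfG hodd)
    (by rw [toOmega_ker]; exact ker_le_center (Cfsg.Agent.S0286.two_ne_zero_of_odd hodd))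

end Cfsg.Agent.Lead.KleinSp
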