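import Mathlib
import Cfsg.Prelude.Def_Classical
import Cfsg.Agent.Lib.Helper14.IsomTransfer
import Cfsg.Agent.S0287

/-!
# `O⁺_6(2) ≅ S_8`

`S_8` acts on `F_2^8`; the even weight vectors modulo the all-one vector form a quadratic space of
dimension 6 of plus type, with `Q(x) = wt(x)/2 mod 2`.  We write the action in matrices:
`M σ = Pmat * P σ * Smat`.
-/

set_option autoImplicit false
set_option linter.unusedSectionVars false
set_option linter.unusedSimpArgs false

namespace Cfsg.Agent.Lead.O6S8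

open Matrix Equiv

/-- The field with two elements. -/
abbrev K := ZMod 2
/-- The index type of the 6-dimensional space. -/
abbrev I := Fin 3 ⊕ Fin 3

def e1 : Fin 8 → K := ![1, 1, 1, 1, 0, 0, 0, 0]
def e2 : Fin 8 → K := ![1, 1, 0, 0, 0, 1, 1, 0]
def e3 : Fin 8 → K := ![1, 0, 1, 0, 0, 0, 1, 1]
def f1 : Fin 8 → K := ![1, 1, 1, 0, 1, 0, 0, 0]
def f2 : Fin 8 → K := ![1, 1, 0, 0, 0, 1, 0, 1]
def f3 : Fin 8 → K := ![1, 0, 0, 1, 1, 1, 0, 0]

/-- The matrix whose columns are a hyperbolic basis of (even weight vectors)/(all-one vector). -/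
def Smat : Matrix (Fin 8) I K := fun i j => Sum.elim ![e1, e2, e3] ![f1, f2, f3] j i
/-- The coordinate matrix. -/
def Pmat : Matrix I (Fin 8) K := fun j i => Sum.elim ![f1, f2, f3] ![e1, e2, e3] j i

/-- all-one vector -/
def one8 : Fin 8 → K := fun _ => 1
def avec : Fin 8 → K := ![0, 1, 0, 1, 1, 0, 1, 1]
def bvec : Fin 8 → K := ![1, 0, 1, 0, 0, 1, 0, 0]

theorem g1 : Smat * Pmat = 1 + vecMulVec one8 avec + vecMulVec bvec one8 := by decide
theorem g2 : one8 ᵥ* Smat = 0 := by decide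
theorem g3 : Pmat *ᵥ one8 = 0 := by decide
theorem g4 : Pmat * Smat = 1 := by decide

/-- The permutation matrix of `σ` (a homomorphism in `σ`). -/
def P (σ : Perm (Fin 8)) : Matrix (Fin 8) (Fin 8) K := (σ⁻¹).permMatrix K

theorem P_mul (σ τ : Perm (Fin 8)) : P (σ * τ) = P σ * P τ := by
  unfold P
  rw [_root_.mul_inv_rev, Matrix.permMatrix_mul]

theorem P_one : P 1 = 1 := by
  unfold P
  rw [inv_one, Matrix.permMatrix_one]

theorem P_mulVec (σ : Perm (Fin 8)) (y : Fin 8 → K) : P σ *ᵥ y = y ∘ (σ⁻¹ : Perm (Fin 8)) := by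
  unfold P
  rw [Matrix.permMatrix_mulVec]

theorem P_mulVec_one (σ : Perm (Fin 8)) : P σ *ᵥ one8 = one8 := by
  rw [P_mulVec]
  rfl

theorem one_vecMul_P (σ : Perm (Fin 8)) : one8 ᵥ* P σ = one8 := by
  unfold P
  rw [Matrix.vecMul_permMatrix]
  rfl

/-- The matrix of `σ` on the 6-dimensional quadratic space. -/
def M (σ : Perm (Fin 8)) : Matrix I I K := Pmat * P σ * Smat

theorem M_one : M 1 = 1 := by
  unfold M
  rw [P_one, Matrix.mul_one, g4]

theorem vmv_zero {m n : Type*} (w : m → K) : vecMulVec w (0 : n → K) = 0 := by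
  ext i j
  simp [Matrix.vecMulVec_apply]

theorem zero_vmv {m n : Type*} (w : n → K) : vecMulVec (0 : m → K) w = 0 := by
  ext i j
  simp [Matrix.vecMulVec_apply]

theorem one_vecMul_PS (σ : Perm (Fin 8)) : one8 ᵥ* (P σ * Smat) = 0 := by
  rw [← Matrix.vecMul_vecMul, one_vecMul_P, g2]

theorem Smat_mul_M (σ : Perm (Fin 8)) :
    Smat * M σ = P σ * Smat + vecMulVec one8 (avec ᵥ* (P σ * Smat)) := by
  unfold M
  rw [← Matrix.mul_assoc, ← Matrix.mul_assoc, g1, Matrix.mul_assoc, Matrix.add_mul, Matrix.add_mul,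
    Matrix.one_mul, Matrix.vecMulVec_mul, Matrix.vecMulVec_mul, one_vecMul_PS,
    vmv_zero, add_zero]

theorem M_mul (σ τ : Perm (Fin 8)) : M (σ * τ) = M σ * M τ := by
  have h : M σ * M τ = Pmat * P σ * (Smat * M τ) := by
    unfold M
    simp only [Matrix.mul_assoc]
  rw [h, Smat_mul_M, Matrix.mul_add, Matrix.mul_vecMulVec, ← Matrix.mulVec_mulVec, P_mulVec_one, g3,
    zero_vmv, add_zero]
  unfold M
  rw [P_mul]
  simp only [Matrix.mul_assoc]

/-- The weight of a vector of `F_2^8`. -/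
def wt (y : Fin 8 → K) : ℕ := (Finset.univ.filter fun i => y i = 1).card

theorem key : ∀ v : I → K, wt (Smat *ᵥ v) % 2 = 0 ∧
    Cfsg.quadFormPlus 3 K v = ((wt (Smat *ᵥ v) / 2 : ℕ) : K) := by decide

theorem wt_le (y : Fin 8 → K) : wt y ≤ 8 := by
  unfold wt
  exact (Finset.card_le_univ _).trans (by simp)

theorem wt_comp (y : Fin 8 → K) (τ : Perm (Fin 8)) : wt (y ∘ τ) = wt y := by
  unfold wt
  exact Finset.card_equiv τ (by intro i; simp)

theorem wt_add_one (y : Fin 8 → K) : wt (y + one8) = 8 - wt y := by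
  unfold wt
  have h : (Finset.univ.filter fun i => (y + one8) i = 1) =
      (Finset.univ.filter fun i => y i = 1)ᶜ := by
    ext i
    rw [Finset.mem_compl, Finset.mem_filter, Finset.mem_filter]
    simp only [Finset.mem_univ, true_and, Pi.add_apply, one8]
    have h2 : ∀ a : K, a + 1 = 1 ↔ ¬ a = 1 := by decide
    exact h2 (y i)
  rw [h, Finset.card_compl, Fintype.card_fin]

theorem half_cast : ∀ w < 9, w % 2 = 0 → (((8 - w) / 2 : ℕ) : K) = ((w / 2 : ℕ) : K) := by
  decide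

theorem scalar_cases : ∀ a : K, a = 0 ∨ a = 1 := by decide

/-- `M σ` preserves the quadratic form. -/
theorem Q_M (σ : Perm (Fin 8)) (v : I → K) :
    Cfsg.quadFormPlus 3 K (M σ *ᵥ v) = Cfsg.quadFormPlus 3 K v := by
  obtain ⟨hev, hQ⟩ := key v
  rw [(key (M σ *ᵥ v)).2, hQ]
  have h1 : Smat *ᵥ (M σ *ᵥ v) =
      (Smat *ᵥ v) ∘ (σ⁻¹ : Perm (Fin 8)) + ((avec ᵥ* (P σ * Smat)) ⬝ᵥ v) • one8 := by
    rw [Matrix.mulVec_mulVec, Smat_mul_M, Matrix.add_mulVec, ← Matrix.mulVec_mulVec, P_mulVec,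
      Matrix.vecMulVec_mulVec, op_smul_eq_smul]
  rw [h1]
  rcases scalar_cases ((avec ᵥ* (P σ * Smat)) ⬝ᵥ v) with h0 | h0
  · rw [h0, zero_smul, add_zero, wt_comp]
  · rw [h0, one_smul, wt_add_one, wt_comp]
    exact half_cast _ (Nat.lt_succ_of_le (wt_le _)) hev

/-- `M` as a monoid homomorphism. -/
def Mhom : Perm (Fin 8) →* Matrix I I K where
  toFun := M
  map_one' := M_one
  map_mul' := M_mul

/-- into the general linear group -/
def toGL : Perm (Fin 8) →* Matrix.GeneralLinearGroup I K := Mhom.toHomUnits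

theorem toGL_coe (σ : Perm (Fin 8)) :
    ((toGL σ : Matrix.GeneralLinearGroup I K) : Matrix I I K) = M σ := rfl

theorem toGL_mem (σ : Perm (Fin 8)) :
    toGL σ ∈ Cfsg.isometryGroup K (Cfsg.quadFormPlus 3 K) := by
  rw [Cfsg.Agent.Helper14.mem_isometryGroup_iff]
  intro u
  rw [toGL_coe]
  exact Q_M σ u

/-- The homomorphism `S_8 → O⁺_6(2)`. -/
def toO : Perm (Fin 8) →* Cfsg.isometryGroup K (Cfsg.quadFormPlus 3 K) :=
  toGL.codRestrict _ toGL_mem

/-- A 3-cycle. -/
def c3 : Perm (Fin 8) := swap 0 1 * swap 1 2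

theorem c3_mem : c3 ∈ alternatingGroup (Fin 8) := by
  rw [Equiv.Perm.mem_alternatingGroup]
  decide

theorem M_c3_ne : M c3 ≠ 1 := by decide

theorem toO_injective : Function.Injective toO := by
  rw [← MonoidHom.ker_eq_bot_iff]
  by_contra hne
  have hnt : Nontrivial toO.ker := (Subgroup.nontrivial_iff_ne_bot _).mpr hne
  have hle := Equiv.Perm.alternatingGroup_le_of_normal (α := Fin 8) (by simp) hnt
  have h1 : c3 ∈ toO.ker := hle c3_mem
  rw [MonoidHom.mem_ker] at h1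
  have h2 : toGL c3 = 1 := congrArg Subtype.val h1
  exact M_c3_ne (congrArg Units.val h2)

theorem card_O6 : Nat.card (Cfsg.isometryGroup K (Cfsg.quadFormPlus 3 K)) = 40320 := by
  rw [Cfsg.Agent.S0287.result (F := K) (q := 2) (ZMod.card 2) 3 (by norm_num)]
  simp [Finset.prod_range_succ]

theorem toO_bijective : Function.Bijective toO := by
  rw [Nat.bijective_iff_injective_and_card]
  refine ⟨toO_injective, ?_⟩
  rw [card_O6, Nat.card_eq_fintype_card, Fintype.card_perm]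
  rfl

/-- `S_8 ≅ O⁺_6(2)`. -/
noncomputable def permEquivO : Perm (Fin 8) ≃* Cfsg.isometryGroup K (Cfsg.quadFormPlus 3 K) :=
  MulEquiv.ofBijective toO toO_bijective

end Cfsg.Agent.Lead.O6S8
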