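import Mathlib
import Cfsg.Agent.Lib.Lead.SpCard

/-!
# `Sp_4(2) ≅ S_6`

`S_6` acts on `F_2^6`; the even weight vectors modulo the all-one vector form a symplectic space of
dimension 4.  We write the action in matrices: `M σ = Π * P σ * S`.
-/

set_option autoImplicit false
set_option linter.unusedSectionVars false
set_option linter.unusedSimpArgs false

namespace Cfsg.Agent.Lead.Sp4S6

open Matrix Equiv

/-- The field with two elements. -/
abbrev K := ZMod 2
/-- The index type of `Sp_4`. -/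
abbrev L := Fin 2 ⊕ Fin 2

def u1 : Fin 6 → K := ![1, 0, 0, 0, 0, 1]
def u2 : Fin 6 → K := ![1, 1, 1, 0, 0, 1]
def v1 : Fin 6 → K := ![0, 1, 0, 0, 0, 1]
def v2 : Fin 6 → K := ![1, 1, 0, 1, 0, 1]

/-- The matrix whose columns are a symplectic basis of (even weight vectors)/(all-one vector). -/
def Smat : Matrix (Fin 6) L K := fun i j => Sum.elim ![u1, u2] ![v1, v2] j i
/-- The coordinate matrix. -/
def Pmat : Matrix L (Fin 6) K := fun j i => Sum.elim ![v1, v2] ![u1, u2] j i

/-- all-one vector -/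
def one6 : Fin 6 → K := fun _ => 1
def avec : Fin 6 → K := ![0, 0, 0, 0, 1, 0]
def bvec : Fin 6 → K := ![1, 1, 1, 1, 0, 1]

theorem f1 : Smat * Pmat = 1 + vecMulVec one6 avec + vecMulVec bvec one6 := by decide
theorem f2 : one6 ᵥ* Smat = 0 := by decide
theorem f3 : Pmat *ᵥ one6 = 0 := by decide
theorem f4 : Pmat * Smat = 1 := by decide
theorem f5 : Smatᵀ * Smat = Matrix.J (Fin 2) K := by decide
theorem f6 : one6 ⬝ᵥ one6 = 0 := by decide


/-- The permutation matrix of `σ` (a homomorphism in `σ`). -/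
def P (σ : Perm (Fin 6)) : Matrix (Fin 6) (Fin 6) K := (σ⁻¹).permMatrix K

theorem P_mul (σ τ : Perm (Fin 6)) : P (σ * τ) = P σ * P τ := by
  unfold P
  rw [_root_.mul_inv_rev, Matrix.permMatrix_mul]

theorem P_one : P 1 = 1 := by
  unfold P
  rw [inv_one, Matrix.permMatrix_one]

theorem P_mulVec_one (σ : Perm (Fin 6)) : P σ *ᵥ one6 = one6 := by
  unfold P
  rw [Matrix.permMatrix_mulVec]
  rfl

theorem one_vecMul_P (σ : Perm (Fin 6)) : one6 ᵥ* P σ = one6 := by
  unfold P
  rw [Matrix.vecMul_permMatrix]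
  rfl

theorem P_transpose_mul (σ : Perm (Fin 6)) : (P σ)ᵀ * P σ = 1 := by
  have h : (P σ)ᵀ = P σ⁻¹ := by
    unfold P
    rw [Matrix.transpose_permMatrix]
  rw [h, ← P_mul, inv_mul_cancel, P_one]

/-- The matrix of `σ` on the 4-dimensional symplectic space. -/
def M (σ : Perm (Fin 6)) : Matrix L L K := Pmat * P σ * Smat

theorem M_one : M 1 = 1 := by
  unfold M
  rw [P_one, Matrix.mul_one, f4]

theorem vmv_zero {m n : Type*} (w : m → K) : vecMulVec w (0 : n → K) = 0 := by
  ext i j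
  simp [Matrix.vecMulVec_apply]

theorem zero_vmv {m n : Type*} (w : n → K) : vecMulVec (0 : m → K) w = 0 := by
  ext i j
  simp [Matrix.vecMulVec_apply]

theorem one_vecMul_PS (σ : Perm (Fin 6)) : one6 ᵥ* (P σ * Smat) = 0 := by
  rw [← Matrix.vecMul_vecMul, one_vecMul_P, f2]

theorem PT_mulVec_one (σ : Perm (Fin 6)) : (P σ)ᵀ *ᵥ one6 = one6 := by
  rw [Matrix.mulVec_transpose, one_vecMul_P]

theorem Smat_mul_M (σ : Perm (Fin 6)) :
    Smat * M σ = P σ * Smat + vecMulVec one6 (avec ᵥ* (P σ * Smat)) := by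
  unfold M
  rw [← Matrix.mul_assoc, ← Matrix.mul_assoc, f1, Matrix.mul_assoc, Matrix.add_mul, Matrix.add_mul,
    Matrix.one_mul, Matrix.vecMulVec_mul, Matrix.vecMulVec_mul, one_vecMul_PS,
    vmv_zero, add_zero]

theorem M_mul (σ τ : Perm (Fin 6)) : M (σ * τ) = M σ * M τ := by
  have h : M σ * M τ = Pmat * P σ * (Smat * M τ) := by
    unfold M
    simp only [Matrix.mul_assoc]
  rw [h, Smat_mul_M, Matrix.mul_add, Matrix.mul_vecMulVec, ← Matrix.mulVec_mulVec, P_mulVec_one, f3,
    zero_vmv, add_zero]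
  unfold M
  rw [P_mul]
  simp only [Matrix.mul_assoc]

theorem M_mem (σ : Perm (Fin 6)) : M σ ∈ Matrix.symplecticGroup (Fin 2) K := by
  rw [← SymplecticGroup.transpose_mem_iff, SymplecticGroup.mem_iff, Matrix.transpose_transpose,
    ← f5]
  have h : (M σ)ᵀ * (Smatᵀ * Smat) * M σ = (Smat * M σ)ᵀ * (Smat * M σ) := by
    rw [Matrix.transpose_mul]
    simp only [Matrix.mul_assoc]
  rw [h, Smat_mul_M]
  set c := avec ᵥ* (P σ * Smat) with hc
  rw [Matrix.transpose_add, Matrix.transpose_vecMulVec, Matrix.add_mul, Matrix.mul_add,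
    Matrix.mul_add, Matrix.vecMulVec_mul_vecMulVec, f6, zero_smul, vmv_zero, add_zero,
    Matrix.vecMulVec_mul, one_vecMul_PS, vmv_zero, add_zero,
    Matrix.transpose_mul, Matrix.mul_vecMulVec]
  have h2 : (Smatᵀ * (P σ)ᵀ) *ᵥ one6 = 0 := by
    rw [← Matrix.mulVec_mulVec, PT_mulVec_one, Matrix.mulVec_transpose, f2]
  rw [h2, zero_vmv, add_zero]
  calc Smatᵀ * (P σ)ᵀ * (P σ * Smat) = Smatᵀ * ((P σ)ᵀ * P σ) * Smat := by
        simp only [Matrix.mul_assoc]
    _ = Smatᵀ * Smat := by rw [P_transpose_mul, Matrix.mul_one]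

/-- The homomorphism `S_6 → Sp_4(2)`. -/
def toSp : Perm (Fin 6) →* Matrix.symplecticGroup (Fin 2) K where
  toFun σ := ⟨M σ, M_mem σ⟩
  map_one' := Subtype.ext M_one
  map_mul' σ τ := Subtype.ext (M_mul σ τ)


/-- A 3-cycle. -/
def c3 : Perm (Fin 6) := swap 0 1 * swap 1 2

theorem c3_mem : c3 ∈ alternatingGroup (Fin 6) := by
  rw [Equiv.Perm.mem_alternatingGroup]
  decide

theorem M_c3_ne : M c3 ≠ 1 := by decide

theorem toSp_injective : Function.Injective toSp := by
  rw [← MonoidHom.ker_eq_bot_iff]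
  by_contra hne
  have hnt : Nontrivial toSp.ker := (Subgroup.nontrivial_iff_ne_bot _).mpr hne
  have hle := Equiv.Perm.alternatingGroup_le_of_normal (α := Fin 6) (by simp) hnt
  have h1 : c3 ∈ toSp.ker := hle c3_mem
  rw [MonoidHom.mem_ker] at h1
  exact M_c3_ne (congrArg Subtype.val h1)

theorem card_sp4 : Nat.card (Matrix.symplecticGroup (Fin 2) K) = 720 := by
  rw [Cfsg.Agent.Lead.card_symplecticGroup]
  simp [Finset.prod_range_succ]

theorem toSp_bijective : Function.Bijective toSp := by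
  rw [Nat.bijective_iff_injective_and_card]
  refine ⟨toSp_injective, ?_⟩
  rw [card_sp4, Nat.card_eq_fintype_card, Fintype.card_perm]
  rfl

/-- `S_6 ≅ Sp_4(2)`. -/
noncomputable def permEquivSp : Perm (Fin 6) ≃* Matrix.symplecticGroup (Fin 2) K :=
  MulEquiv.ofBijective toSp toSp_bijective

section transfer

variable {R S : Type*} [CommRing R] [CommRing S] {l : Type*} [Fintype l] [DecidableEq l]

theorem J_map (f : R →+* S) : (Matrix.J l R).map f = Matrix.J l S := by
  ext i j
  rcases i with i | i <;> rcases j with j | j <;>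
    simp [Matrix.J, Matrix.one_apply, apply_ite f]

theorem map_mem_sp (f : R →+* S) {A : Matrix (l ⊕ l) (l ⊕ l) R}
    (hA : A ∈ Matrix.symplecticGroup l R) : A.map f ∈ Matrix.symplecticGroup l S := by
  rw [SymplecticGroup.mem_iff] at hA ⊢
  rw [← J_map f, ← Matrix.transpose_map, ← Matrix.map_mul, ← Matrix.map_mul, hA]

/-- A ring isomorphism induces an isomorphism of symplectic groups. -/
def spCongr (e : R ≃+* S) : Matrix.symplecticGroup l R ≃* Matrix.symplecticGroup l S where
  toFun A := ⟨A.1.map (e : R →+* S), map_mem_sp (e : R →+* S) A.2⟩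
  invFun B := ⟨B.1.map (e.symm : S →+* R), map_mem_sp (e.symm : S →+* R) B.2⟩
  left_inv A := by
    apply Subtype.ext
    ext i j
    simp
  right_inv B := by
    apply Subtype.ext
    ext i j
    simp
  map_mul' A B := by
    apply Subtype.ext
    exact Matrix.map_mul

end transfer

/-- `Sp_4(F) ≅ S_6` for a field with two elements. -/
theorem sp4_equiv_perm {F : Type*} [Field F] [Fintype F] (hF : Fintype.card F = 2) :
    Nonempty (Matrix.symplecticGroup (Fin 2) F ≃* Equiv.Perm (Fin 6)) := by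
  have e : ZMod 2 ≃+* F := ZMod.ringEquivOfPrime F Nat.prime_two hF
  exact ⟨(spCongr e.symm).trans permEquivSp.symm⟩

end Cfsg.Agent.Lead.Sp4S6
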